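import Groth.Agent.HTopFrob.Good
import Mathlib.Algebra.Polynomial.Laurent
import Mathlib.Algebra.Category.Ring.Basic

/-!
# Total transforms of blow-ups descend sections up to a power of the characteristic

The two charts `A[X]/(g - f X)` and `A[X]/(f - g X)` of the total transform form a good family; iterating,
any finite list of elements becomes principal on a good family.
-/

set_option autoImplicit false
set_option linter.style.haveILetI false

universe u

open TensorProduct Polynomial

namespace Groth.Agent.HTopFrob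

variable {A : Type u} [CommRing A]

/-- The equations of the two charts. -/
noncomputable def chartEq (f g : A) : Fin 2 → A[X] :=
  ![C g - C f * X, C f - C g * X]

/-- A chart of the total transform. -/
abbrev Chart (f g : A) (i : Fin 2) : Type u := A[X] ⧸ Ideal.span {chartEq f g i}

theorem chartEq_map {R : Type u} [CommRing R] (φ : A →+* R) (f g : A) (i : Fin 2) :
    (chartEq f g i).map φ = chartEq (φ f) (φ g) i := by
  fin_cases i <;> simp [chartEq]

/-- A Laurent polynomial is a polynomial plus a strictly negative part. -/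
theorem exists_split {R : Type u} [CommRing R] (c : LaurentPolynomial R) :
    ∃ a d : R[X], c = toLaurent a + LaurentPolynomial.T (-1) * LaurentPolynomial.invert (toLaurent d) := by
  induction c using LaurentPolynomial.induction_on' with
  | add x y hx hy =>
    obtain ⟨a, d, rfl⟩ := hx
    obtain ⟨a', d', rfl⟩ := hy
    exact ⟨a + a', d + d', by simp only [map_add]; ring⟩
  | C_mul_T n r =>
    rcases n with m | m
    · refine ⟨Polynomial.C r * X ^ m, 0, ?_⟩
      simp [Polynomial.toLaurent_C_mul_X_pow]
    · refine ⟨0, Polynomial.C r * X ^ m, ?_⟩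
      rw [map_zero, zero_add, Polynomial.toLaurent_C_mul_X_pow, map_mul, LaurentPolynomial.invert_C,
        LaurentPolynomial.invert_T, ← mul_assoc, mul_comm (LaurentPolynomial.T _) (LaurentPolynomial.C r),
        mul_assoc, ← LaurentPolynomial.T_add, show (Int.negSucc m) = -1 + -(m : ℤ) by omega]

/-- A polynomial in `T` equal to one in `T⁻¹` is a constant. -/
theorem eq_C_of_toLaurent_eq_invert {R : Type u} [CommRing R] {L M : R[X]}
    (h : toLaurent L = LaurentPolynomial.invert (toLaurent M)) :
    ∃ a : R, L = Polynomial.C a ∧ M = Polynomial.C a := by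
  nontriviality R
  have h1 : L * X ^ M.natDegree = M.reverse := Polynomial.toLaurent_injective (by
    rw [map_mul, Polynomial.toLaurent_X_pow, LaurentPolynomial.toLaurent_reverse, h])
  have hL : L.natDegree = 0 := by
    rcases eq_or_ne L 0 with rfl | hL
    · exact natDegree_zero
    have := (congrArg natDegree h1).le.trans (reverse_natDegree_le M)
    rw [natDegree_mul_X_pow _ hL] at this
    omega
  obtain ⟨a, rfl⟩ := natDegree_eq_zero.1 hL
  refine ⟨a, rfl, Polynomial.toLaurent_injective ?_⟩
  have := congrArg LaurentPolynomial.invert h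
  rw [Polynomial.toLaurent_C, LaurentPolynomial.invert_C] at this
  rw [Polynomial.toLaurent_C, this]
  exact ((LaurentPolynomial.invert (R := R)).apply_symm_apply _).symm

/-- The square of an element killed on both charts is zero. -/
theorem sq_eq_zero_of_dvd {R : Type u} [CommRing R] {f g x : R}
    (h₀ : chartEq f g 0 ∣ Polynomial.C x) (h₁ : chartEq f g 1 ∣ Polynomial.C x) : x * x = 0 := by
  obtain ⟨a, ha⟩ := h₀
  obtain ⟨b, hb⟩ := h₁
  simp only [chartEq, Matrix.cons_val_zero, Matrix.cons_val_one, sub_mul, mul_assoc] at ha hb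
  have ha0 : x = g * a.coeff 0 := by simpa using congrArg (fun q => q.coeff 0) ha
  have hb0 : x = f * b.coeff 0 := by simpa using congrArg (fun q => q.coeff 0) hb
  have hai : ∀ n, g * a.coeff (n + 1) = f * a.coeff n := fun n => by
    have := congrArg (fun q => q.coeff (n + 1)) ha
    simp only [coeff_sub, coeff_C_mul, coeff_X_mul, coeff_C_succ] at this
    exact sub_eq_zero.1 this.symm
  have hbi : ∀ n, f * b.coeff (n + 1) = g * b.coeff n := fun n => by
    have := congrArg (fun q => q.coeff (n + 1)) hb
    simp only [coeff_sub, coeff_C_mul, coeff_X_mul, coeff_C_succ] at this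
    exact sub_eq_zero.1 this.symm
  have hs : ∀ n, g * a.coeff n * (f * b.coeff n) = x * x := by
    intro n
    induction n with
    | zero => rw [← ha0, ← hb0]
    | succ n ih => rw [hai, hbi, ← ih]; ring
  rw [← hs (a.natDegree + 1), coeff_eq_zero_of_natDegree_lt (Nat.lt_succ_self _), mul_zero, zero_mul]

variable {p : ℕ} [Fact p.Prime]

/-- The two charts are good. -/
theorem good_chart (f g : A) : Good p (A := A) (Chart f g) := by
  classical
  refine ⟨1, fun R _ _ => ?_⟩
  let ψ : A →+* R := algebraMap A R
  let F := ψ f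
  let G := ψ g
  let π : ∀ i, R ⊗[A] Chart f g i →+* R[X] ⧸ Ideal.span {chartEq F G i} := fun i =>
    lift2 ((Ideal.Quotient.mk _).comp Polynomial.C)
      (Ideal.Quotient.lift _ ((Ideal.Quotient.mk _).comp (Polynomial.mapRingHom ψ)) fun q hq => by
        obtain ⟨c, rfl⟩ := Ideal.mem_span_singleton.1 hq
        rw [RingHom.comp_apply, Ideal.Quotient.eq_zero_iff_mem, Polynomial.coe_mapRingHom, Polynomial.map_mul,
          chartEq_map]
        exact Ideal.mul_mem_right _ _ (Ideal.mem_span_singleton_self _))
      fun a => by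
        rw [IsScalarTower.algebraMap_apply A A[X] (Chart f g i) a, Polynomial.algebraMap_eq,
          Ideal.Quotient.algebraMap_eq, Ideal.Quotient.lift_mk, RingHom.comp_apply, RingHom.comp_apply,
          Polynomial.coe_mapRingHom, Polynomial.map_C]
  let σ : ∀ i, R[X] →+* R ⊗[A] Chart f g i := fun i =>
    Polynomial.eval₂RingHom (Algebra.TensorProduct.includeLeftRingHom : R →+* R ⊗[A] Chart f g i)
      ((1 : R) ⊗ₜ[A] (Ideal.Quotient.mk _ Polynomial.X : Chart f g i))
  have hσC : ∀ i r, σ i (Polynomial.C r) = r ⊗ₜ 1 := fun i r => by simp [σ]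
  have hσmap : ∀ i (Q : A[X]), σ i (Q.map ψ) = 1 ⊗ₜ Ideal.Quotient.mk _ Q := fun i => by
    intro Q
    suffices ((σ i).comp (Polynomial.mapRingHom ψ)) =
        (Algebra.TensorProduct.includeRight : Chart f g i →ₐ[A] _).toRingHom.comp (Ideal.Quotient.mk _) from
      RingHom.congr_fun this Q
    refine @Polynomial.ringHom_ext A _ (R ⊗[A] Chart f g i) _ _ _ (fun a => ?_) ?_
    swap
    · simp only [RingHom.comp_apply, Polynomial.coe_mapRingHom, Polynomial.map_X]
      exact Polynomial.eval₂_X _ _
    show σ i ((Polynomial.C a).map ψ) = 1 ⊗ₜ _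
    rw [Polynomial.map_C, hσC, algebraMap_tmul_one]
    rfl
  have hσq : ∀ i, σ i (chartEq F G i) = 0 := fun i => by
    rw [← chartEq_map ψ, hσmap, Ideal.Quotient.eq_zero_iff_mem.2 (Ideal.mem_span_singleton_self _),
      TensorProduct.tmul_zero]
  have hπσ : ∀ i P, π i (σ i P) = Ideal.Quotient.mk _ P := fun i P => by
    suffices (π i).comp (σ i) = Ideal.Quotient.mk _ from RingHom.congr_fun this P
    exact Polynomial.ringHom_ext (fun r => by simp [π, σ]) (by simp [π, σ])
  have hsur : ∀ i z, ∃ P, σ i P = z := by
    intro i z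
    induction z with
    | zero => exact ⟨0, map_zero _⟩
    | tmul r c =>
      obtain ⟨Q, rfl⟩ := Ideal.Quotient.mk_surjective c
      exact ⟨Polynomial.C r * Q.map ψ, by
        rw [map_mul, hσC, hσmap, Algebra.TensorProduct.tmul_mul_tmul, mul_one, one_mul]⟩
    | add x y hx hy =>
      obtain ⟨P, rfl⟩ := hx
      obtain ⟨Q, rfl⟩ := hy
      exact ⟨P + Q, map_add _ _ _⟩
  refine ⟨fun x hx => ?_, fun b hb => ?_⟩
  · have hd : ∀ i, chartEq F G i ∣ Polynomial.C x := fun i => by
      rw [← Ideal.mem_span_singleton, ← Ideal.Quotient.eq_zero_iff_mem, ← hπσ i, hσC, hx i, map_zero]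
    exact pow_eq_zero_of_le (m := 2) (by rw [pow_one]; exact (Fact.out (p := p.Prime)).two_le)
      (by rw [sq]; exact sq_eq_zero_of_dvd (hd 0) (hd 1))
  · obtain ⟨P, hP⟩ := hsur 0 (b 0)
    obtain ⟨Q, hQ⟩ := hsur 1 (b 1)
    let J : Ideal (LaurentPolynomial R) :=
      Ideal.span {toLaurent (chartEq F G 0)}
    let g₀ : R[X] ⧸ Ideal.span {chartEq F G 0} →+* LaurentPolynomial R ⧸ J :=
      Ideal.Quotient.lift _ ((Ideal.Quotient.mk J).comp toLaurent) fun q hq => by
        obtain ⟨c, rfl⟩ := Ideal.mem_span_singleton.1 hq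
        rw [RingHom.comp_apply, Ideal.Quotient.eq_zero_iff_mem, map_mul]
        exact Ideal.mul_mem_right _ _ (Ideal.mem_span_singleton_self _)
    have hinv : LaurentPolynomial.invert (toLaurent (chartEq F G 1)) =
        -(LaurentPolynomial.T (-1) * toLaurent (chartEq F G 0)) := by
      simp only [chartEq, Matrix.cons_val_zero, Matrix.cons_val_one, map_sub, map_mul,
        Polynomial.toLaurent_C, Polynomial.toLaurent_X, LaurentPolynomial.invert_C, LaurentPolynomial.invert_T]
      have hT : LaurentPolynomial.T (R := R) (-1) * LaurentPolynomial.T 1 = 1 := by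
        rw [← LaurentPolynomial.T_add]; simp
      linear_combination (-LaurentPolynomial.C F) * hT
    let g₁ : R[X] ⧸ Ideal.span {chartEq F G 1} →+* LaurentPolynomial R ⧸ J :=
      Ideal.Quotient.lift _
        (((Ideal.Quotient.mk J).comp (LaurentPolynomial.invert (R := R)).toRingHom).comp toLaurent) fun q hq => by
        obtain ⟨c, rfl⟩ := Ideal.mem_span_singleton.1 hq
        rw [RingHom.comp_apply, RingHom.comp_apply, Ideal.Quotient.eq_zero_iff_mem, map_mul, map_mul]
        refine Ideal.mul_mem_right _ _ ?_
        show LaurentPolynomial.invert (toLaurent (chartEq F G 1)) ∈ J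
        rw [hinv]
        exact J.neg_mem (Ideal.mul_mem_left _ _ (Ideal.mem_span_singleton_self _))
    have e := hb 0 1 _ (g₀.comp (π 0)) (g₁.comp (π 1)) fun r => by simp [π, g₀, g₁]
    rw [← hP, ← hQ, RingHom.comp_apply, RingHom.comp_apply, hπσ, hπσ] at e
    simp only [g₀, g₁, Ideal.Quotient.lift_mk, RingHom.comp_apply] at e
    obtain ⟨c, hc⟩ := Ideal.mem_span_singleton.1 (Ideal.Quotient.eq.1 e)
    obtain ⟨a, d, rfl⟩ := exists_split c
    obtain ⟨α, hα, hα'⟩ := eq_C_of_toLaurent_eq_invert (L := P - chartEq F G 0 * a)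
        (M := Q - chartEq F G 1 * d) (by
      simp only [map_sub, map_mul, hinv]
      have hc' : toLaurent P - LaurentPolynomial.invert (toLaurent Q) = _ := hc
      linear_combination hc')
    refine ⟨α ^ p ^ 1, fun i => ?_⟩
    rw [← one_pow (M := Chart f g i) (p ^ 1), ← Algebra.TensorProduct.tmul_pow]
    congr 1
    fin_cases i
    · show α ⊗ₜ _ = b 0
      rw [← hP, ← hσC, ← hα, map_sub, map_mul]
      exact (sub_eq_self.2 (mul_eq_zero_of_left (hσq _) _))
    · show α ⊗ₜ _ = b 1
      rw [← hQ, ← hσC, ← hα', map_sub, map_mul]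
      exact (sub_eq_self.2 (mul_eq_zero_of_left (hσq _) _))

/-- Any nonempty finite list becomes principal on a good family. -/
theorem exists_good_principal : ∀ (n : ℕ) {A : Type u} [CommRing A], (p : A) = 0 → ∀ l : List A,
    l.length = n + 1 → ∃ (ι : Type) (_ : Finite ι) (T : ι → CommRingCat.{u}) (_ : ∀ k, Algebra A (T k)),
      Good p (A := A) (fun k => T k) ∧
      ∀ k, ∃ g ∈ l, ∀ f ∈ l, algebraMap A (T k) g ∣ algebraMap A (T k) f := by
  intro n
  induction n with
  | zero =>
    intro A _ hp l hl
    obtain ⟨g, rfl⟩ := List.length_eq_one_iff.1 hl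
    exact ⟨Unit, inferInstance, fun _ => CommRingCat.of A, fun _ => inferInstanceAs (Algebra A A),
      Good.of_faithfullyFlat A, fun _ => ⟨g, List.mem_singleton_self g, fun f hf => by
        rw [List.mem_singleton.1 hf]⟩⟩
  | succ n ih =>
    intro A _ hp l hl
    match l, hl with
    | f :: g :: t, hl =>
      have hlen : ∀ i : Fin 2, ((![f, g] i :: t).map (algebraMap A (Chart f g i))).length = n + 1 := fun i => by
        rw [List.length_map, List.length_cons]
        simpa using hl
      choose ι hι T alg hgood hdiv using fun i : Fin 2 =>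
        ih (A := Chart f g i) (natCast_eq_zero (A := A) hp) _ (hlen i)
      haveI := hι
      letI := alg
      letI algA : ∀ i k, Algebra A (T i k) := fun i k =>
        ((algebraMap (Chart f g i) (T i k)).comp (algebraMap A (Chart f g i))).toAlgebra
      haveI : ∀ i k, IsScalarTower A (Chart f g i) (T i k) := fun i k =>
        ⟨fun a b z => by
          rw [Algebra.smul_def (R := Chart f g i), Algebra.smul_def (R := Chart f g i),
            Algebra.smul_def (R := A) (A := T i k), show a • b = algebraMap A (Chart f g i) a * b from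
              Algebra.smul_def a b, map_mul, mul_assoc]
          rfl⟩
      refine ⟨Σ i, ι i, inferInstance, fun x => T x.1 x.2, fun x => algA x.1 x.2,
        Good.comp (C := fun i k => T i k) hp (good_chart f g) hgood, ?_⟩
      rintro ⟨i, k⟩
      obtain ⟨h, hh, hall⟩ := hdiv i k
      obtain ⟨h₀, hh₀, rfl⟩ := List.mem_map.1 hh
      refine ⟨h₀, ?_, fun q hq => ?_⟩
      · rcases List.mem_cons.1 hh₀ with rfl | hh₀
        · fin_cases i <;> simp
        · exact List.mem_cons_of_mem _ (List.mem_cons_of_mem _ hh₀)
      · show algebraMap _ (T i k) (algebraMap A _ h₀) ∣ algebraMap _ (T i k) (algebraMap A _ q)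
        have hhead := hall _ (List.mem_map.2 ⟨![f, g] i, List.mem_cons_self, rfl⟩)
        have hX : ∀ x y : A, (Ideal.Quotient.mk (Ideal.span {chartEq f g i}))
            (Polynomial.C y - Polynomial.C x * Polynomial.X) = 0 →
            algebraMap A (Chart f g i) x ∣ algebraMap A (Chart f g i) y := fun x y h0 =>
          ⟨Ideal.Quotient.mk _ Polynomial.X, by
            rw [map_sub, map_mul, sub_eq_zero] at h0
            exact h0⟩
        have hq0 := Ideal.Quotient.eq_zero_iff_mem.2
          (Ideal.mem_span_singleton_self (chartEq f g i))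
        have hfg : ∀ q, q = f ∨ q = g → algebraMap A (Chart f g i) (![f, g] i) ∣ algebraMap A (Chart f g i) q := by
          rintro q hq
          fin_cases i <;> rcases hq with rfl | rfl
          · exact dvd_rfl
          · exact hX _ _ hq0
          · exact hX _ _ hq0
          · exact dvd_rfl
        rcases List.mem_cons.1 hq with rfl | hq
        · exact hhead.trans (map_dvd _ (hfg _ (Or.inl rfl)))
        rcases List.mem_cons.1 hq with rfl | hq
        · exact hhead.trans (map_dvd _ (hfg _ (Or.inr rfl)))
        exact hall _ (List.mem_map.2 ⟨q, List.mem_cons_of_mem _ hq, rfl⟩)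

end Groth.Agent.HTopFrob
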