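import Groth.Agent.HTopFrob.Noeth
import Mathlib.RingTheory.RingHom.Flat

/-!
# Faithfully flat algebras from finitely many charts
-/

set_option autoImplicit false
set_option linter.style.haveILetI false
set_option maxHeartbeats 1000000

universe u

open TensorProduct

namespace Groth.Agent.HTopFrob

variable {p : ℕ} [Fact p.Prime]

omit [Fact p.Prime] in
theorem Good.of_subsingleton {A : Type u} [CommRing A] [Subsingleton A] {ι : Type} (B : ι → Type u)
    [∀ i, CommRing (B i)] [∀ i, Algebra A (B i)] : Good p (A := A) B := by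
  refine ⟨0, fun R _ _ => ?_⟩
  have : Subsingleton R := Module.subsingleton A R
  exact ⟨fun x _ => Subsingleton.elim _ _, fun b _ => ⟨0, fun i => by
    have : Subsingleton (R ⊗[A] B i) := Module.subsingleton A _
    exact Subsingleton.elim _ _⟩⟩

omit [Fact p.Prime] in
theorem ValCover.baseChange {A B : Type u} [CommRing A] [CommRing B] [Algebra A B] (h : ValCover A B)
    (R : Type u) [CommRing R] [Algebra A R] : ValCover R (R ⊗[A] B) := by
  intro K _ _ O χ
  obtain ⟨ψ, hψ⟩ := h K O (χ.comp (algebraMap A R))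
  refine ⟨lift2 χ ψ fun a => (RingHom.congr_fun hψ a).symm, RingHom.ext fun r => ?_⟩
  refine (lift2_tmul χ ψ (fun a => (RingHom.congr_fun hψ a).symm) r 1).trans ?_
  rw [map_one, mul_one]

omit [Fact p.Prime] in
/-- The product of finitely many charts is faithfully flat over a ring whose points are covered. -/
theorem exists_ff_of_charts {R B : Type u} [CommRing R] [CommRing B] [Algebra R B]
    {K : Type u} [Field K] [Algebra R K] (U : Subalgebra R K) {ι : Type} [Finite ι]
    (S : ι → Finset K) (hS : ∀ j, HasChart R B (S j)) (h : ι → U) (h0 : ∀ j, (h j : K) ≠ 0)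
    (hmem : ∀ j, ∀ x ∈ S j, x * (h j : K) ∈ U) (hcov : ∀ q : PrimeSpectrum U, ∃ j, h j ∉ q.asIdeal) :
    ∃ (C : CommRingCat.{u}) (_ : Algebra U C), Module.FaithfullyFlat U C ∧
      ∃ φ : B →+* C, φ.comp (algebraMap R B) = (algebraMap U C).comp (algebraMap R U) := by
  classical
  haveI := Fintype.ofFinite ι
  choose D C alg ρ ι₀ hρ hρι hρS hff ψ hψ using hS
  letI := alg
  let W : ι → Type u := fun j => Localization.Away (h j)
  let μ : ∀ j, W j →+* K := fun j => IsLocalization.Away.lift (h j) (g := U.val.toRingHom)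
    (isUnit_iff_ne_zero.2 (h0 j))
  have hμ : ∀ j (y : U), μ j (algebraMap U (W j) y) = y := fun j y => IsLocalization.Away.lift_eq _ _ y
  have hμinj : ∀ j, Function.Injective (μ j) := fun j => (injective_iff_map_eq_zero (μ j)).2 fun l hl => by
    obtain ⟨⟨y, t⟩, ht⟩ := IsLocalization.surj (Submonoid.powers (h j)) l
    have hy : (y : K) = 0 := by rw [← hμ j, ← ht, map_mul, hl, zero_mul]
    have hy0 : y = 0 := Subtype.ext hy
    rw [hy0, map_zero] at ht
    exact (IsLocalization.map_units (W j) t).mul_left_eq_zero.1 ht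
  have hrange : ∀ j d, ρ j d ∈ (μ j).range := by
    intro j d
    refine (Subring.closure_le.2 ?_ : Subring.closure _ ≤ (μ j).range) (hρS j d)
    rintro x (⟨r, rfl⟩ | hx)
    · exact ⟨algebraMap U (W j) (algebraMap R U r), hμ j _⟩
    · refine ⟨algebraMap U (W j) ⟨_, hmem j x hx⟩ * IsLocalization.Away.invSelf (h j), ?_⟩
      have hinv : (h j : K) * μ j (IsLocalization.Away.invSelf (h j)) = 1 := by
        rw [← hμ j (h j), ← map_mul, IsLocalization.Away.mul_invSelf, map_one]
      rw [map_mul, hμ, mul_assoc, hinv, mul_one]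
  let e : ∀ j, W j ≃+* (μ j).range := fun j => RingEquiv.ofBijective (μ j).rangeRestrict
    ⟨fun x y hxy => hμinj j (congrArg Subtype.val hxy), (μ j).rangeRestrict_surjective⟩
  let δ : ∀ j, (D j) →+* W j := fun j => (e j).symm.toRingHom.comp ((ρ j).codRestrict (μ j).range (hrange j))
  have hδ : ∀ j d, μ j (δ j d) = ρ j d := fun j d => congrArg Subtype.val ((e j).apply_symm_apply _)
  letI : ∀ j, Algebra (D j) (W j) := fun j => (δ j).toAlgebra
  let T : ι → Type u := fun j => W j ⊗[D j] C j
  haveI : ∀ j, IsScalarTower U (W j) (T j) := fun j => inferInstanceAs (IsScalarTower U (W j) (W j ⊗[D j] C j))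
  haveI : ∀ j, Module.Flat U (T j) := fun j => by
    haveI := hff j
    haveI : Module.Flat U (W j) := IsLocalization.flat (W j) (Submonoid.powers (h j))
    exact Module.Flat.trans U (W j) (T j)
  haveI : Module.Flat U (∀ j, T j) :=
    Module.Flat.of_linearEquiv (DirectSum.linearEquivFunOnFintype U ι T).symm
  let φ : B →+* (∀ j, T j) := RingHom.pi fun j =>
    (Algebra.TensorProduct.includeRight : C j →ₐ[D j] T j).toRingHom.comp (ψ j)
  refine ⟨CommRingCat.of (∀ j, T j), Pi.algebra ι T, ?_, φ, ?_⟩
  · show @Module.FaithfullyFlat U (∀ j, T j) _ _ _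
    refine Module.FaithfullyFlat.of_comap_surjective fun q => ?_
    obtain ⟨j, hj⟩ := hcov q
    have hqW : q ∈ Set.range (PrimeSpectrum.comap (algebraMap U (W j))) :=
      (Set.ext_iff.1 (PrimeSpectrum.localization_away_comap_range (W j) (h j)) q).2 hj
    obtain ⟨w, rfl⟩ := hqW
    haveI := hff j
    obtain ⟨t, ht⟩ := PrimeSpectrum.comap_surjective_of_faithfullyFlat (A := W j) (B := T j) w
    refine ⟨PrimeSpectrum.comap (Pi.evalRingHom T j) t, ?_⟩
    rw [← ht, ← PrimeSpectrum.comap_comp_apply, ← PrimeSpectrum.comap_comp_apply]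
    rfl
  · refine RingHom.ext fun r => funext fun j => ?_
    show (1 : W j) ⊗ₜ[D j] ψ j (algebraMap R B r) =
      algebraMap U (W j) (algebraMap R U r) ⊗ₜ[D j] (1 : C j)
    rw [show ψ j (algebraMap R B r) = _ from RingHom.congr_fun (hψ j) r]
    have : δ j (ι₀ j r) = algebraMap U (W j) (algebraMap R U r) := hμinj j (by
      rw [hδ, hμ]
      exact RingHom.congr_fun (hρι j) r)
    rw [← this]
    exact (algebraMap_tmul_one _).symm


end Groth.Agent.HTopFrob
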