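import Groth.Agent.HTopFrob.Sheaf
import Groth.Prelude.Def_W4stkflatp2Frob
import Groth.Prelude.Def_QuotSh
import Mathlib.CategoryTheory.Sites.LocallySurjective

/-!
# The colimit along the `p`-th power map of global sections

Its Zariski sheafification has the same values on quasi-compact quasi-separated schemes and is an h sheaf.
-/

set_option autoImplicit false
set_option linter.style.haveILetI false
set_option maxHeartbeats 1000000

universe u

open CategoryTheory CategoryTheory.Limits AlgebraicGeometry TopologicalSpace Opposite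

namespace Groth.Agent.HTopFrob

/-- Powers agree in some common degree. -/
def ColimEq (p : ℕ) {X : Scheme.{u}} (x y : ℕ × Γ(X, ⊤)) : Prop :=
  ∃ i j, x.1 + i = y.1 + j ∧ x.2 ^ p ^ i = y.2 ^ p ^ j

theorem colimEq_add {p : ℕ} {X : Scheme.{u}} {x y : ℕ × Γ(X, ⊤)} {i j : ℕ} (hd : x.1 + i = y.1 + j)
    (he : x.2 ^ p ^ i = y.2 ^ p ^ j) (t : ℕ) :
    x.1 + (i + t) = y.1 + (j + t) ∧ x.2 ^ p ^ (i + t) = y.2 ^ p ^ (j + t) :=
  ⟨by omega, by rw [pow_add, pow_mul, he, ← pow_mul, ← pow_add]⟩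

theorem mk_shift (p : ℕ) {X : Scheme.{u}} (n : ℕ) (a : Γ(X, ⊤)) (k : ℕ) :
    HTop.FrobColimSections.mk p n a = HTop.FrobColimSections.mk p (n + k) (a ^ p ^ k) := by
  induction k with
  | zero => simp
  | succ k ih =>
    rw [ih, HTop.FrobColimSections.sound p (n + k), ← pow_mul, ← pow_succ]
    rfl

theorem colimEq_of_eqvGen {p : ℕ} {X : Scheme.{u}} {x y : ℕ × Γ(X, ⊤)}
    (h : Relation.EqvGen (HTop.FrobColimRel p X) x y) : ColimEq p x y := by
  induction h with
  | rel x y hxy =>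
    cases hxy
    exact ⟨1, 0, rfl, by rw [pow_one, pow_zero, pow_one]⟩
  | refl x => exact ⟨0, 0, rfl, rfl⟩
  | symm x y _ ih =>
    obtain ⟨i, j, hd, he⟩ := ih
    exact ⟨j, i, hd.symm, he.symm⟩
  | trans x y z _ _ ih ih' =>
    obtain ⟨i, j, hd, he⟩ := ih
    obtain ⟨k, l, hd', he'⟩ := ih'
    obtain ⟨h1, h2⟩ := colimEq_add hd he k
    obtain ⟨h3, h4⟩ := colimEq_add hd' he' j
    exact ⟨i + k, l + j, by omega, h2.trans (by rw [add_comm j k]; exact h4)⟩

theorem mk_eq_mk_iff (p : ℕ) {X : Scheme.{u}} {n m : ℕ} {a b : Γ(X, ⊤)} :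
    HTop.FrobColimSections.mk p n a = HTop.FrobColimSections.mk p m b ↔ ColimEq p (n, a) (m, b) := by
  refine ⟨fun h => ?_, fun ⟨i, j, hd, he⟩ => ?_⟩
  · exact colimEq_of_eqvGen (Quot.eqvGen_exact h)
  · rw [mk_shift p n a i, mk_shift p m b j, show n + i = m + j from hd, show a ^ p ^ i = b ^ p ^ j from he]

theorem exists_affine_cover {U V : Scheme.{u}} (f : V ⟶ U) [IsAffine U] [IsProper f] [Surjective f]
    [LocallyOfFinitePresentation f] :
    ∃ (W : Scheme.{u}) (h : W ⟶ V), IsAffine W ∧ LocallyOfFinitePresentation h ∧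
      (∀ b b' : Γ(V, ⊤), h.appTop b = h.appTop b' → b = b') ∧
      HTop.HasValLift (PreZeroHypercover.singleton.{0} (h ≫ f)) := by
  classical
  haveI : CompactSpace V := QuasiCompact.compactSpace_of_compactSpace f
  let 𝒱 := V.affineCover.finiteSubcover
  haveI : ∀ k, IsAffine (𝒱.X k) := fun k => Scheme.isAffine_affineCover _ _
  haveI : ∀ k, IsOpenImmersion (𝒱.f k) := fun k => inferInstanceAs (IsOpenImmersion (V.affineCover.f _))
  refine ⟨∐ 𝒱.X, Sigma.desc 𝒱.f, inferInstance,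
    IsZariskiLocalAtSource.sigmaDesc (P := @LocallyOfFinitePresentation) fun k => inferInstance, ?_, ?_⟩
  · intro b b' hb
    refine Scheme.OpenCover.ext_elem b b' 𝒱 fun k => ?_
    show (𝒱.f k).appTop b = (𝒱.f k).appTop b'
    rw [show 𝒱.f k = Sigma.ι 𝒱.X k ≫ Sigma.desc 𝒱.f from (Sigma.ι_desc _ _).symm, Scheme.Hom.comp_appTop,
      CommRingCat.comp_apply, CommRingCat.comp_apply, hb]
  · have hV : HTop.IsVCover (PreZeroHypercover.singleton.{0} f) := (HTopLib.isHCover_of_proper f).2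
    obtain ⟨n, ik, Vk, -, hlift⟩ := HTopUltra.exists_finite_affine_lifting _ hV
    intro R _ _ g
    obtain ⟨R', hR, hR', φ, hφ, k, g', hg'⟩ := hlift R g
    let g₂ : Spec R' ⟶ V := g' ≫ (Vk k).ι
    have hr : Set.range g₂ ⊆ Set.range (𝒱.f (𝒱.idx (g₂ (IsLocalRing.closedPoint R')))) :=
      HTopLib.range_subset_of_closedPoint g₂ (𝒱.f (𝒱.idx (g₂ (IsLocalRing.closedPoint R')))).opensRange
        (𝒱.covers _)
    refine ⟨R', hR, hR', φ, hφ, PUnit.unit,
      IsOpenImmersion.lift (𝒱.f _) g₂ hr ≫ Sigma.ι 𝒱.X _, ?_⟩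
    show (IsOpenImmersion.lift (𝒱.f _) g₂ hr ≫ Sigma.ι 𝒱.X _) ≫ Sigma.desc 𝒱.f ≫ f = _
    rw [Category.assoc, Sigma.ι_desc_assoc, IsOpenImmersion.lift_fac_assoc, Category.assoc]
    exact hg'

variable (p : ℕ) (S : Scheme.{u})

/-- The presheaf in the universe of sheaves. -/
abbrev colimPsh : (Over S)ᵒᵖ ⥤ Type (u + 1) := HTop.frobColimPresheaf p S ⋙ uliftFunctor.{u + 1, u}

/-- The class of a section. -/
def cls {X : Over S} (n : ℕ) (a : Γ(X.left, ⊤)) : (colimPsh p S).obj (op X) :=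
  ULift.up (HTop.FrobColimSections.mk p n a)

theorem map_cls {X Y : Over S} (g : X ⟶ Y) (n : ℕ) (a : Γ(Y.left, ⊤)) :
    (colimPsh p S).map g.op (cls p S n a) = cls p S n (g.left.appTop a) := rfl

theorem exists_cls {X : Over S} (x : (colimPsh p S).obj (op X)) : ∃ n a, x = cls p S n a := by
  obtain ⟨x⟩ := x
  induction x using Quot.ind with
  | mk x => exact ⟨x.1, x.2, rfl⟩

theorem cls_eq_iff {X : Over S} {n m : ℕ} {a b : Γ(X.left, ⊤)} :
    cls p S n a = cls p S m b ↔ ColimEq p (n, a) (m, b) :=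
  ⟨fun h => (mk_eq_mk_iff p).1 (congrArg ULift.down h), fun h => congrArg ULift.up ((mk_eq_mk_iff p).2 h)⟩

/-- Classes agreeing on a finite open cover agree. -/
theorem eq_of_finite_cover {X : Over S} (𝒰 : X.left.OpenCover) [Finite 𝒰.I₀] {n m : ℕ} {a b : Γ(X.left, ⊤)}
    (h : ∀ k, ColimEq p (X := 𝒰.X k) (n, (𝒰.f k).appTop a) (m, (𝒰.f k).appTop b)) :
    ColimEq p (n, a) (m, b) := by
  classical
  haveI := Fintype.ofFinite 𝒰.I₀
  choose i j hd he using h
  let D := Finset.univ.sup (fun k => n + i k) + n + m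
  refine ⟨D - n, D - m, by simp only; omega, Scheme.OpenCover.ext_elem _ _ 𝒰 fun k => ?_⟩
  have hk : n + i k ≤ Finset.univ.sup (fun k => n + i k) := Finset.le_sup (f := fun k => n + i k) (Finset.mem_univ k)
  have hd' : n + i k = m + j k := hd k
  obtain ⟨-, h2⟩ := colimEq_add (x := (n, (𝒰.f k).appTop a)) (y := (m, (𝒰.f k).appTop b)) (hd k) (he k)
    (D - (n + i k))
  rw [show i k + (D - (n + i k)) = D - n by omega, show j k + (D - (n + i k)) = D - m by omega] at h2
  show (𝒰.f k).appTop (a ^ p ^ (D - n)) = (𝒰.f k).appTop (b ^ p ^ (D - m))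
  rw [map_pow, map_pow]
  exact h2

variable {p S}

local notation "J" => QuotSh.J Scheme.zariskiPrecoverage S

theorem exists_openCover_of_mem {X : Over S} {R : Sieve X} (hR : R ∈ J X) :
    ∃ 𝒰 : Scheme.OpenCover.{u} X.left, ∀ k, R (Over.homMk (𝒰.f k) rfl : Over.mk (𝒰.f k ≫ X.hom) ⟶ X) := by
  have hR' : Sieve.overEquiv X R ∈ Scheme.grothendieckTopology @IsOpenImmersion X.left :=
    (GrothendieckTopology.mem_over_iff _ _).1 hR
  obtain ⟨𝒰, h𝒰⟩ := Scheme.mem_grothendieckTopology_iff.1 hR'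
  refine ⟨𝒰, fun k => ?_⟩
  exact (Sieve.overEquiv_iff R _).1 (h𝒰 _ _ ⟨k⟩)

/-- On a quasi-compact object the map to the sheafification is injective. -/
theorem toSheafify_injective {X : Over S} [CompactSpace X.left] :
    Function.Injective (((J).toSheafify (colimPsh p S)).app (op X)) := by
  intro x y h
  obtain ⟨𝒰, h𝒰⟩ := exists_openCover_of_mem
    (Presheaf.equalizerSieve_mem (QuotSh.J Scheme.zariskiPrecoverage S) ((J).toSheafify (colimPsh p S)) x y h)
  obtain ⟨n, a, rfl⟩ := exists_cls p S x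
  obtain ⟨m, b, rfl⟩ := exists_cls p S y
  refine (cls_eq_iff p S).2 (eq_of_finite_cover p S 𝒰.finiteSubcover fun k => ?_)
  have := h𝒰 (𝒰.idx k.1)
  exact (cls_eq_iff p S).1 this

/-- On a quasi-compact quasi-separated object the map to the sheafification is bijective. -/
theorem toSheafify_bijective {X : Over S} [CompactSpace X.left] [QuasiSeparatedSpace X.left] :
    Function.Bijective (((J).toSheafify (colimPsh p S)).app (op X)) := by
  classical
  let η := (J).toSheafify (colimPsh p S)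
  refine ⟨toSheafify_injective, fun s => ?_⟩
  obtain ⟨𝒰, h𝒰⟩ := exists_openCover_of_mem
    (Presheaf.imageSieve_mem (QuotSh.J Scheme.zariskiPrecoverage S) η s)
  -- a finite affine refinement
  let 𝒲 := 𝒰.affineRefinement.openCover.finiteSubcover
  haveI : Fintype 𝒲.I₀ := Fintype.ofFinite _
  let U : 𝒲.I₀ → Over S := fun k => Over.mk (𝒲.f k ≫ X.hom)
  let g : ∀ k, U k ⟶ X := fun k => Over.homMk (𝒲.f k) rfl
  have hloc : ∀ k, ∃ n a, η.app (op (U k)) (cls p S n a) = ((J).sheafify (colimPsh p S)).map (g k).op s := by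
    intro k
    let l := 𝒰.affineRefinement.openCover.idx k.1
    let φ : U k ⟶ Over.mk (𝒰.f l.1 ≫ X.hom) := Over.homMk ((𝒰.X l.1).affineCover.f l.2) (by
      show _ ≫ 𝒰.f l.1 ≫ X.hom = ((𝒰.X l.1).affineCover.f l.2 ≫ 𝒰.f l.1) ≫ X.hom
      rw [Category.assoc])
    have hfac : φ ≫ (Over.homMk (𝒰.f l.1) rfl : Over.mk (𝒰.f l.1 ≫ X.hom) ⟶ X) = g k :=
      Over.OverMorphism.ext rfl
    obtain ⟨x, hx⟩ := (hfac ▸ (Presheaf.imageSieve η s).downward_closed (h𝒰 l.1) φ :
      Presheaf.imageSieve η s (g k))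
    obtain ⟨n, a, rfl⟩ := exists_cls p S x
    exact ⟨n, a, hx⟩
  choose n a ha using hloc
  haveI : ∀ k, IsAffine (𝒲.X k) := fun k => Scheme.isAffine_affineCover _ _
  haveI : ∀ k, IsOpenImmersion (𝒲.f k) := fun k =>
    inferInstanceAs (IsOpenImmersion (𝒰.affineRefinement.openCover.f _))
  -- agreement on overlaps
  have hover : ∀ k l, ColimEq p (X := pullback (𝒲.f k) (𝒲.f l))
      (n k, (pullback.fst (𝒲.f k) (𝒲.f l)).appTop (a k))
      (n l, (pullback.snd (𝒲.f k) (𝒲.f l)).appTop (a l)) := by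
    intro k l
    haveI : QuasiCompact (𝒲.f l) := inferInstance
    haveI : CompactSpace (pullback (𝒲.f k) (𝒲.f l) : Scheme.{u}) :=
      QuasiCompact.compactSpace_of_compactSpace (pullback.fst (𝒲.f k) (𝒲.f l))
    let P : Over S := Over.mk (pullback.fst (𝒲.f k) (𝒲.f l) ≫ 𝒲.f k ≫ X.hom)
    haveI : CompactSpace P.left := ‹_›
    let p₁ : P ⟶ U k := Over.homMk (pullback.fst _ _) rfl
    let p₂ : P ⟶ U l := Over.homMk (pullback.snd _ _) (by
      show pullback.snd _ _ ≫ 𝒲.f l ≫ X.hom = pullback.fst _ _ ≫ 𝒲.f k ≫ X.hom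
      rw [pullback.condition_assoc])
    have hp : p₁ ≫ g k = p₂ ≫ g l := Over.OverMorphism.ext pullback.condition
    refine (cls_eq_iff p S (X := P)).1 (toSheafify_injective ?_)
    show η.app (op P) ((colimPsh p S).map p₁.op (cls p S (n k) (a k))) =
      η.app (op P) ((colimPsh p S).map p₂.op (cls p S (n l) (a l)))
    rw [NatTrans.naturality_apply η, NatTrans.naturality_apply η, ha, ha, ← ConcreteCategory.comp_apply,
      ← ConcreteCategory.comp_apply, ← Functor.map_comp, ← Functor.map_comp, ← op_comp, ← op_comp, hp]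
  choose i j hd he using hover
  let D := Finset.univ.sup (fun kl : 𝒲.I₀ × 𝒲.I₀ => n kl.1 + i kl.1 kl.2) + Finset.univ.sup n
  have hn : ∀ k, n k ≤ D := fun k => (Finset.le_sup (Finset.mem_univ k)).trans (Nat.le_add_left _ _)
  let c : ∀ k, Γ(𝒲.X k, ⊤) := fun k => a k ^ p ^ (D - n k)
  have hc : ∀ k l, (pullback.fst (𝒲.f k) (𝒲.f l)).appTop (c k) =
      (pullback.snd (𝒲.f k) (𝒲.f l)).appTop (c l) := by
    intro k l
    have h0 : n k + i k l ≤ D := (Finset.le_sup (f := fun kl : 𝒲.I₀ × 𝒲.I₀ => n kl.1 + i kl.1 kl.2)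
      (Finset.mem_univ (k, l))).trans (Nat.le_add_right _ _)
    have hd' : n k + i k l = n l + j k l := hd k l
    obtain ⟨-, h2⟩ := colimEq_add (x := (n k, (pullback.fst (𝒲.f k) (𝒲.f l)).appTop (a k)))
      (y := (n l, (pullback.snd (𝒲.f k) (𝒲.f l)).appTop (a l))) (hd k l) (he k l) (D - (n k + i k l))
    rw [show i k l + (D - (n k + i k l)) = D - n k by omega,
      show j k l + (D - (n k + i k l)) = D - n l by omega] at h2
    show (pullback.fst (𝒲.f k) (𝒲.f l)).appTop (a k ^ p ^ (D - n k)) =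
      (pullback.snd (𝒲.f k) (𝒲.f l)).appTop (a l ^ p ^ (D - n l))
    rw [map_pow, map_pow]
    exact h2
  -- glue
  have hz := isSheaf_zariski 1 S
  let x : ∀ k, (HTop.frobLimPresheaf 1 S).obj (op (U k)) := fun k =>
    (⟨fun _ => c k, fun _ => pow_one _⟩ : HTop.FrobLimSections 1 (𝒲.X k))
  obtain ⟨r, hr, -⟩ := (Presieve.isSheafFor_arrows_iff _ _).1 (HTopUltra.HSheaf.isSheafFor_openCover hz X 𝒲) x
    fun k l Z e e' hee => HTop.FrobLimSections.ext fun _ => by
      have hl : e.left ≫ 𝒲.f k = e'.left ≫ 𝒲.f l := congrArg CommaMorphism.left hee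
      show e.left.appTop (c k) = e'.left.appTop (c l)
      rw [← pullback.lift_fst e.left e'.left hl, Scheme.Hom.comp_appTop, CommRingCat.comp_apply, hc,
        ← CommRingCat.comp_apply, ← Scheme.Hom.comp_appTop, pullback.lift_snd]
  refine ⟨cls p S D (r.1 0), ?_⟩
  have hsh : Presieve.IsSheaf (Scheme.zariskiTopology.over S) ((J).sheafify (colimPsh p S)) :=
    (isSheaf_iff_isSheaf_of_type _ _).1 ((J).sheafify_isSheaf (colimPsh p S))
  refine HTopUltra.HSheaf.ext_openCover hsh 𝒲 fun k => ?_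
  show ((J).sheafify (colimPsh p S)).map (g k).op (η.app (op X) (cls p S D (r.1 0))) = _
  rw [← NatTrans.naturality_apply η, map_cls]
  refine Eq.trans (congrArg (η.app (op (U k))) ?_) (ha k)
  have hrk : (𝒲.f k).appTop (r.1 0) = c k := congrFun (congrArg Subtype.val (hr k)) 0
  show cls p S (X := U k) D ((𝒲.f k).appTop (r.1 0)) = cls p S (n k) (a k)
  rw [hrk]
  refine (cls_eq_iff p S).2 ⟨0, D - n k, by have := hn k; simp only; omega, ?_⟩
  show (c k) ^ p ^ 0 = a k ^ p ^ (D - n k)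
  rw [pow_zero, pow_one]

variable (p S)

/-- The sheaf condition for proper surjections onto affines. -/
theorem isSheafFor_proper_colim [Fact p.Prime] (hS : (p : Γ(S, ⊤)) = 0) {U V : Over S} (f : V ⟶ U)
    [IsAffine U.left] [IsProper f.left] [Surjective f.left] [LocallyOfFinitePresentation f.left] :
    Presieve.IsSheafFor ((J).sheafify (colimPsh p S)) (Presieve.singleton f) := by
  classical
  let η := (J).toSheafify (colimPsh p S)
  haveI : CompactSpace U.left := inferInstance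
  haveI : CompactSpace V.left := QuasiCompact.compactSpace_of_compactSpace f.left
  haveI : QuasiSeparatedSpace V.left := quasiSeparatedSpace_of_quasiSeparated f.left
  obtain ⟨W, h, hW, hlfp, hext, hcov⟩ := exists_affine_cover f.left
  haveI := hW
  haveI := hlfp
  let q := h ≫ f.left
  have hpU : (p : Γ(U.left, ⊤)) = 0 := by rw [← map_natCast U.hom.appTop.hom, hS, map_zero]
  obtain ⟨N, hsep, hglue⟩ := exists_goodAt q hpU hcov
  rw [Presieve.isSheafFor_singleton]
  intro s hs
  obtain ⟨x, rfl⟩ := toSheafify_bijective.2 s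
  obtain ⟨n, β, rfl⟩ := exists_cls p S x
  let P : Over S := Over.mk (pullback.fst f.left f.left ≫ V.hom)
  haveI : CompactSpace P.left :=
    QuasiCompact.compactSpace_of_compactSpace (pullback.fst f.left f.left)
  let p₁ : P ⟶ V := Over.homMk (pullback.fst _ _) rfl
  let p₂ : P ⟶ V := Over.homMk (pullback.snd _ _) (by
    show pullback.snd _ _ ≫ V.hom = pullback.fst _ _ ≫ V.hom
    rw [← Over.w f, pullback.condition_assoc])
  have h12 := hs p₁ p₂ (Over.OverMorphism.ext pullback.condition)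
  rw [← NatTrans.naturality_apply, ← NatTrans.naturality_apply] at h12
  obtain ⟨i, j, hij, he⟩ := (cls_eq_iff p S).1 (toSheafify_injective h12)
  obtain rfl : i = j := by simpa using hij
  have hcomp : ∀ (Z : CommRingCat.{u}) (z z' : Spec Z ⟶ W), z ≫ q = z' ≫ q →
      z.appTop (h.appTop (β ^ p ^ i)) = z'.appTop (h.appTop (β ^ p ^ i)) := by
    intro Z z z' hz
    let l : Spec Z ⟶ pullback f.left f.left := pullback.lift (z ≫ h) (z' ≫ h) (by
      rw [Category.assoc, Category.assoc]; exact hz)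
    have he' : (pullback.fst f.left f.left).appTop (β ^ p ^ i) =
        (pullback.snd f.left f.left).appTop (β ^ p ^ i) := by rw [map_pow, map_pow]; exact he
    have := congrArg (fun t => l.appTop t) he'
    rw [← CommRingCat.comp_apply, ← CommRingCat.comp_apply, ← Scheme.Hom.comp_appTop,
      ← Scheme.Hom.comp_appTop, pullback.lift_fst, pullback.lift_snd] at this
    exact this
  obtain ⟨a, ha⟩ := hglue _ hcomp
  have hfa : f.left.appTop a = (β ^ p ^ i) ^ p ^ N := hext _ _ (by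
    rw [map_pow, ← CommRingCat.comp_apply, ← Scheme.Hom.comp_appTop]
    exact ha)
  refine ⟨η.app (op U) (cls p S (n + (i + N)) a), ?_, ?_⟩
  · show ((J).sheafify (colimPsh p S)).map f.op _ = _
    rw [← NatTrans.naturality_apply η, map_cls]
    refine congrArg (η.app (op V)) ((cls_eq_iff p S).2 ⟨0, i + N, by simp, ?_⟩)
    show (f.left.appTop a) ^ p ^ 0 = β ^ p ^ (i + N)
    rw [pow_zero, pow_one, hfa, ← pow_mul, ← pow_add]
  · intro s' hs'
    obtain ⟨x', rfl⟩ := toSheafify_bijective.2 s'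
    obtain ⟨m, a', rfl⟩ := exists_cls p S x'
    refine congrArg (η.app (op U)) ((cls_eq_iff p S).2 ?_)
    rw [← NatTrans.naturality_apply, map_cls] at hs'
    obtain ⟨k, l, hkl, he₂⟩ := (cls_eq_iff p S).1 (toSheafify_injective hs')
    -- the pullback of `a` is a power of `β`
    obtain ⟨h5, h6⟩ := colimEq_add (x := (m, f.left.appTop a')) (y := (n, β)) hkl he₂ (i + N)
    have hq : q.appTop (a' ^ p ^ (k + (i + N))) = q.appTop (a ^ p ^ l) := by
      show (h ≫ f.left).appTop _ = (h ≫ f.left).appTop _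
      rw [Scheme.Hom.comp_appTop, CommRingCat.comp_apply, CommRingCat.comp_apply, map_pow f.left.appTop.hom,
        map_pow f.left.appTop.hom, hfa]
      refine congrArg (fun t => h.appTop t) (h6.trans ?_)
      show β ^ p ^ (l + (i + N)) = _
      rw [← pow_mul, ← pow_mul, ← pow_add, ← pow_add]
      congr 2
      omega
    refine ⟨k + (i + N) + N, l + N, by simp only; omega, ?_⟩
    show a' ^ p ^ (k + (i + N) + N) = a ^ p ^ (l + N)
    rw [pow_add p (k + (i + N)) N, pow_mul, pow_add p l N, pow_mul, ← sub_eq_zero, ← sub_pow_q hpU]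
    exact hsep _ (by rw [map_sub, hq, sub_self])

end Groth.Agent.HTopFrob
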