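import Groth.Agent.HTopFrob.Charts
import Mathlib.RingTheory.Polynomial.Basic

/-!
# The domain step of the Noetherian induction
-/

set_option autoImplicit false
set_option linter.style.haveILetI false
set_option maxHeartbeats 1000000

universe u

open TensorProduct

namespace Groth.Agent.HTopFrob

variable {p : ℕ} [Fact p.Prime]

/-- The domain step. -/
theorem good_of_domain {R B : Type u} [CommRing R] [IsDomain R] [IsNoetherianRing R] [CommRing B]
    [Algebra R B] [Algebra.FiniteType R B] (hp : (p : R) = 0) (hB : ValCover R B)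
    (hJ : ∀ J : Ideal R, J ≠ ⊥ → ∃ (C : CommRingCat.{u}) (_ : Algebra (R ⧸ J) C),
      Good p (A := R ⧸ J) (fun _ : Unit => C) ∧
      ∃ φ : B →+* C, φ.comp (algebraMap R B) = (algebraMap (R ⧸ J) C).comp (algebraMap R (R ⧸ J))) :
    Good p (A := R) (fun _ : Unit => B) := by
  classical
  let K := FractionRing R
  let κ := {S : Finset K // HasChart R B S}
  obtain ⟨Ks, hKs⟩ := HTopUltra.exists_finset_valuationSubring (Set.range (algebraMap R K))
    (fun k : κ => k.1) fun O hO => by
      obtain ⟨S, hS, hc⟩ := exists_chart hB O hO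
      exact ⟨⟨S, hc⟩, hS⟩
  let ι := Fin Ks.card
  let kk : ι → κ := fun j => (Ks.equivFin.symm j).1
  have hden : ∀ j, ∃ b : nonZeroDivisors R, ∀ x ∈ (kk j).1, IsLocalization.IsInteger R ((b : R) • x) :=
    fun j => IsLocalization.exist_integer_multiples_of_finset (nonZeroDivisors R) _
  choose s hs using hden
  have hnum : ∀ j (x : {x // x ∈ (kk j).1}), ∃ a : R, algebraMap R K a = algebraMap R K (s j) * x.1 := by
    intro j x
    obtain ⟨a, ha⟩ := hs j x.1 x.2
    exact ⟨a, by rw [ha, Algebra.smul_def]⟩
  choose num hnum using hnum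
  let v : ∀ j, Option {x // x ∈ (kk j).1} → R := fun j o => o.elim (s j : R) (num j)
  have hs0 : ∀ j, algebraMap R K (s j : R) ≠ 0 := fun j =>
    (map_ne_zero_iff _ (IsFractionRing.injective R K)).2 (nonZeroDivisors.ne_zero (s j).2)
  let gp : (∀ j, Option {x // x ∈ (kk j).1}) → R := fun σ => ∏ j, v j (σ j)
  let G : Finset R := (Finset.univ.image gp).filter fun g => g ≠ 0
  have hGne : G.Nonempty := by
    refine ⟨gp fun _ => none, Finset.mem_filter.2 ⟨Finset.mem_image_of_mem gp (Finset.mem_univ _), ?_⟩⟩
    exact Finset.prod_ne_zero_iff.2 fun j _ => nonZeroDivisors.ne_zero (s j).2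
  let J : Ideal R := Ideal.span ↑G
  have hJ0 : J ≠ ⊥ := by
    obtain ⟨g, hg⟩ := hGne
    exact fun h' => (Finset.mem_filter.1 hg).2 (Ideal.mem_bot.1 (h' ▸ Ideal.subset_span hg))
  -- the charts of the total transform
  let e : Fin G.card ≃ {g // g ∈ G} := G.equivFin.symm
  have hg0 : ∀ k, (e k).1 ≠ 0 := fun k => (Finset.mem_filter.1 (e k).2).2
  have hg0K : ∀ k, algebraMap R K (e k).1 ≠ 0 := fun k =>
    (map_ne_zero_iff _ (IsFractionRing.injective R K)).2 (hg0 k)
  let Q := MvPolynomial {g // g ∈ G} R
  let rel : Fin G.card → Ideal Q := fun k =>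
    Ideal.span (Set.range fun f : {g // g ∈ G} => MvPolynomial.C f.1 - MvPolynomial.C (e k).1 * MvPolynomial.X f)
  let Rg : Fin G.card → Type u := fun k => Q ⧸ rel k
  haveI : ∀ k, IsNoetherianRing (Rg k) := fun k => inferInstanceAs (IsNoetherianRing (Q ⧸ rel k))
  have hrel : ∀ k (f : {g // g ∈ G}), algebraMap R (Rg k) f.1 =
      algebraMap R (Rg k) (e k).1 * Ideal.Quotient.mk (rel k) (MvPolynomial.X f) := fun k f =>
    (Ideal.Quotient.eq.2 (Ideal.subset_span ⟨f, rfl⟩) : Ideal.Quotient.mk (rel k) (MvPolynomial.C f.1) = _)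
  let ρ : ∀ k, Rg k →ₐ[R] K := fun k => Ideal.Quotient.liftₐ (rel k)
    (MvPolynomial.aeval fun f : {g // g ∈ G} => algebraMap R K f.1 / algebraMap R K (e k).1) fun q hq => by
      refine (Ideal.span_le.2 ?_ : rel k ≤ RingHom.ker (MvPolynomial.aeval (R := R)
        fun f : {g // g ∈ G} => algebraMap R K f.1 / algebraMap R K (e k).1)) hq
      rintro _ ⟨f, rfl⟩
      refine RingHom.mem_ker.2 ?_
      rw [map_sub, map_mul, MvPolynomial.aeval_X, ← MvPolynomial.algebraMap_eq, AlgHom.commutes,
        AlgHom.commutes, mul_div_cancel₀ _ (hg0K k), sub_self]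
  have hρX : ∀ k f, ρ k (Ideal.Quotient.mk (rel k) (MvPolynomial.X f)) =
      algebraMap R K f.1 / algebraMap R K (e k).1 := fun k f => MvPolynomial.aeval_X _ f
  -- good family of charts
  have hRg : Good p (A := R) Rg := by
    obtain ⟨n, hn⟩ : ∃ n, G.toList.length = n + 1 :=
      ⟨G.card - 1, by rw [Finset.length_toList]; have := hGne.card_pos; omega⟩
    obtain ⟨ι', -, T, alg, hT, hdiv⟩ := exists_good_principal (p := p) n hp G.toList hn
    letI := alg
    choose g hg hall using hdiv
    choose uu huu using fun k (f : {g // g ∈ G}) => hall k f.1 (Finset.mem_toList.2 f.2)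
    let kf : ι' → Fin G.card := fun k => e.symm ⟨g k, Finset.mem_toList.1 (hg k)⟩
    have hek : ∀ k, (e (kf k)).1 = g k := fun k => congrArg Subtype.val (e.apply_symm_apply _)
    refine hT.of_refines hp kf fun k => Ideal.Quotient.liftₐ (rel (kf k)) (MvPolynomial.aeval (uu k))
      fun q hq => ?_
    refine (Ideal.span_le.2 ?_ : rel (kf k) ≤ RingHom.ker (MvPolynomial.aeval (R := R) (uu k))) hq
    rintro _ ⟨f, rfl⟩
    refine RingHom.mem_ker.2 ?_
    rw [map_sub, map_mul, MvPolynomial.aeval_X, ← MvPolynomial.algebraMap_eq, AlgHom.commutes,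
      AlgHom.commutes, hek, ← huu k f, sub_self]
  -- the members: the strict charts and the centre
  let fam : Option (Fin G.card) → CommRingCat.{u} := fun o =>
    o.elim (CommRingCat.of (R ⧸ J)) fun k => CommRingCat.of (ρ k).range
  letI algFam : ∀ o, Algebra R (fam o) := fun o =>
    Option.rec (motive := fun o => Algebra R (fam o)) (Ideal.Quotient.algebra (I := J) R)
      (fun k => (ρ k).range.algebra) o
  have hfam : Good p (A := R) (fun o => fam o) := by
    let mem : Fin G.card → Bool → CommRingCat.{u} := fun k b =>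
      if b then CommRingCat.of (ρ k).range else CommRingCat.of (Rg k ⧸ Ideal.span {algebraMap R (Rg k) (e k).1})
    letI algR : ∀ k b, Algebra (Rg k) (mem k b) := fun k b =>
      Bool.rec (motive := fun b => Algebra (Rg k) (mem k b)) (Ideal.Quotient.mk _).toAlgebra
        (ρ k).rangeRestrict.toRingHom.toAlgebra b
    letI algA : ∀ k b, Algebra R (mem k b) := fun k b =>
      ((algebraMap (Rg k) (mem k b)).comp (algebraMap R (Rg k))).toAlgebra
    haveI : ∀ k b, IsScalarTower R (Rg k) (mem k b) := fun k b =>
      ⟨fun a x z => by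
        rw [Algebra.smul_def (R := Rg k), Algebra.smul_def (R := Rg k), Algebra.smul_def (R := R) (A := mem k b),
          show a • x = algebraMap R (Rg k) a * x from Algebra.smul_def a x, map_mul, mul_assoc]
        rfl⟩
    have hmem : ∀ k, Good p (A := Rg k) (fun b => mem k b) := by
      intro k
      let t := algebraMap R (Rg k) (e k).1
      let I := RingHom.ker (ρ k)
      have key : ∀ r : Rg k, ∃ (n : ℕ) (a : R), t ^ n * r = algebraMap R (Rg k) a := by
        intro r
        obtain ⟨q, rfl⟩ := Ideal.Quotient.mk_surjective r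
        induction q using MvPolynomial.induction_on with
        | C a => exact ⟨0, a, by rw [pow_zero, one_mul]; rfl⟩
        | add q q' hq hq' =>
          obtain ⟨n, a, hn⟩ := hq
          obtain ⟨m, b, hm⟩ := hq'
          refine ⟨n + m, (e k).1 ^ m * a + (e k).1 ^ n * b, ?_⟩
          rw [map_add, map_add, map_mul, map_mul, map_pow, map_pow, ← hn, ← hm]
          ring
        | mul_X q f hq =>
          obtain ⟨n, a, hn⟩ := hq
          refine ⟨n + 1, a * f.1, ?_⟩
          rw [map_mul, map_mul, ← hn, hrel k f]
          ring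
      have hkill : ∀ r ∈ I, ∃ n, t ^ n * r = 0 := by
        intro r hr
        obtain ⟨n, a, hn⟩ := key r
        refine ⟨n, ?_⟩
        have := congrArg (ρ k) hn
        rw [map_mul, RingHom.mem_ker.1 hr, mul_zero, AlgHom.commutes, eq_comm,
          map_eq_zero_iff _ (IsFractionRing.injective R K)] at this
        rw [hn, this, map_zero]
      obtain ⟨T, hT⟩ := (inferInstance : IsNoetherian (Rg k) (Rg k)).noetherian I
      have hTI : ∀ x ∈ T, x ∈ I := fun x hx => hT ▸ Submodule.subset_span hx
      choose nn hnn using fun x : {x // x ∈ T} => hkill x.1 (hTI x.1 x.2)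
      let m := Finset.univ.sup nn + 1
      have hm : (I * Ideal.span {t}) ^ m = ⊥ := by
        refine le_bot_iff.1 ?_
        rw [show (I * Ideal.span {t}) ^ m = I ^ m * Ideal.span {t} ^ m from mul_pow (M := Ideal (Rg k)) I (Ideal.span {t}) m,
          Ideal.span_singleton_pow]
        refine (Ideal.mul_mono_left (Ideal.pow_le_self (Nat.succ_ne_zero _))).trans ?_
        refine Ideal.mul_le.2 fun z hz y hy => ?_
        obtain ⟨c, rfl⟩ := Ideal.mem_span_singleton'.1 hy
        rw [Submodule.mem_bot, ← mul_assoc, mul_comm (z * c), ← mul_assoc]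
        suffices t ^ m * z = 0 by rw [this, zero_mul]
        rw [← hT] at hz
        induction hz using Submodule.span_induction with
        | mem x hx =>
          exact (pow_dvd_pow t ((Finset.le_sup (Finset.mem_univ (⟨x, hx⟩ : {x // x ∈ T}))).trans
            (Nat.le_succ _))).elim fun c hc => by rw [hc, mul_right_comm, hnn ⟨x, hx⟩, zero_mul]
        | zero => rw [mul_zero]
        | add x y _ _ hx hy => rw [mul_add, hx, hy, add_zero]
        | smul c x _ hx => rw [smul_eq_mul, mul_left_comm, hx, mul_zero]
      refine Good.of_quotients I (Ideal.span {t}) hm true false (fun b => by cases b <;> simp)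
        (ρ k).rangeRestrict_surjective ?_ Ideal.Quotient.mk_surjective Ideal.mk_ker
      ext x
      show (ρ k).rangeRestrict x = 0 ↔ _
      rw [Subtype.ext_iff]
      rfl
    refine (Good.comp (C := fun k b => mem k b) hp hRg hmem).of_refines hp
      (fun x => if x.2 then some x.1 else none) fun x => ?_
    obtain ⟨k, b⟩ := x
    cases b
    · refine { Ideal.Quotient.lift J (algebraMap R (mem k false)) fun a ha => ?_ with commutes' := fun _ => rfl }
      refine (Ideal.span_le.2 ?_ : J ≤ RingHom.ker (algebraMap R (mem k false))) ha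
      intro f hf
      show Ideal.Quotient.mk (Ideal.span {algebraMap R (Rg k) (e k).1}) (algebraMap R (Rg k) f) = 0
      rw [Ideal.Quotient.eq_zero_iff_mem, hrel k ⟨f, hf⟩]
      exact Ideal.mul_mem_right _ _ (Ideal.mem_span_singleton_self _)
    · exact { RingHom.id (ρ k).range with commutes' := fun r => Subtype.ext ((ρ k).commutes r).symm }
  -- algebras over the members
  have key : ∀ o, ∃ (C : CommRingCat.{u}) (_ : Algebra (fam o) C), Good p (A := fam o) (fun _ : Unit => C) ∧
      ∃ φ : B →+* C, φ.comp (algebraMap R B) = (algebraMap (fam o) C).comp (algebraMap R (fam o)) := by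
    rintro (- | k)
    · exact hJ J hJ0
    · let g := (e k).1
      obtain ⟨σ, hσ⟩ : ∃ σ, gp σ = g := by
        obtain ⟨σ, -, hσ⟩ := Finset.mem_image.1 (Finset.mem_filter.1 (e k).2).1
        exact ⟨σ, hσ⟩
      have hvne : ∀ j, algebraMap R K (v j (σ j)) ≠ 0 := fun j => by
        refine (map_ne_zero_iff _ (IsFractionRing.injective R K)).2 ?_
        exact Finset.prod_ne_zero_iff.1 (show gp σ ≠ 0 from fun h' => hg0 k (hσ.symm.trans h')) j (Finset.mem_univ j)
      have hU : ∀ f : R, f ∈ Finset.univ.image gp → algebraMap R K f / algebraMap R K g ∈ (ρ k).range := by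
        intro f hf
        by_cases hf0 : f = 0
        · rw [hf0, map_zero, zero_div]; exact zero_mem _
        · exact ⟨_, hρX k ⟨f, Finset.mem_filter.2 ⟨hf, hf0⟩⟩⟩
      have hupd : ∀ j o, algebraMap R K (v j o) / algebraMap R K (v j (σ j)) ∈ (ρ k).range := by
        intro j o
        convert hU (gp (Function.update σ j o)) (Finset.mem_image_of_mem gp (Finset.mem_univ _)) using 1
        rw [show g = gp σ from hσ.symm]
        simp only [gp]
        rw [← Finset.mul_prod_erase Finset.univ (fun i => v i (Function.update σ j o i)) (Finset.mem_univ j),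
          ← Finset.mul_prod_erase Finset.univ (fun i => v i (σ i)) (Finset.mem_univ j), map_mul, map_mul,
          Function.update_self]
        have : ∏ i ∈ Finset.univ.erase j, v i (Function.update σ j o i) =
            ∏ i ∈ Finset.univ.erase j, v i (σ i) :=
          Finset.prod_congr rfl fun i hi => by rw [Function.update_of_ne (Finset.ne_of_mem_erase hi)]
        rw [this, mul_div_mul_right]
        rw [map_prod]
        exact Finset.prod_ne_zero_iff.2 fun i _ => hvne i
      let hh : ι → (ρ k).range := fun j => ⟨_, hupd j none⟩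
      obtain ⟨C, alg, hff, hφ⟩ := exists_ff_of_charts (B := B) (ρ k).range (fun j => (kk j).1)
        (fun j => (kk j).2) hh (fun j => div_ne_zero (hs0 j) (hvne j)) (fun j x hx => by
          convert hupd j (some ⟨x, hx⟩) using 1
          show x * (algebraMap R K (s j) / _) = algebraMap R K (num j ⟨x, hx⟩) / _
          rw [hnum j ⟨x, hx⟩, ← mul_div_assoc, mul_comm x])
        (fun q => by
          obtain ⟨O, hle, hnu⟩ := Ideal.image_subset_nonunits_valuationSubring
            (A := (ρ k).range.toSubring) q.asIdeal q.2.ne_top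
          obtain ⟨c, hc, hcS⟩ := hKs O fun x ⟨r, hr⟩ => hle (hr ▸ (ρ k).range.algebraMap_mem r)
          refine ⟨Ks.equivFin ⟨c, hc⟩, fun hjq => ?_⟩
          set j := Ks.equivFin ⟨c, hc⟩ with hj
          have hkk : (kk j).1 = c.1 := by simp [kk, hj]
          have h1 : O.valuation (algebraMap R K (s j) / algebraMap R K (v j (σ j))) < 1 :=
            O.mem_nonunits_iff.1 (hnu ⟨hh j, hjq, rfl⟩)
          have h2 : O.valuation (algebraMap R K (v j (σ j)) / algebraMap R K (s j)) ≤ 1 := by
            rw [O.valuation_le_one_iff]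
            cases hσj : σ j with
            | none => rw [show v j none = (s j : R) from rfl, div_self (hs0 j)]; exact one_mem _
            | some x =>
              rw [show v j (some x) = num j x from rfl, hnum, mul_div_cancel_left₀ _ (hs0 j)]
              exact hcS (hkk ▸ x.2)
          have h3 := mul_lt_one_of_lt_of_le h1 h2
          rw [← map_mul, div_mul_div_cancel₀ (hvne j), div_self (hs0 j), map_one] at h3
          exact h3.false)
      letI : Algebra (ρ k).range C := alg
      haveI := hff
      exact ⟨C, alg, Good.of_faithfullyFlat (A := (ρ k).range) C, hφ⟩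
  choose C alg hgood φ hφ using key
  letI := alg
  letI algC : ∀ o, Algebra R (C o) := fun o => ((algebraMap (fam o) (C o)).comp (algebraMap R (fam o))).toAlgebra
  haveI : ∀ o, IsScalarTower R (fam o) (C o) := fun o => IsScalarTower.of_algebraMap_eq' rfl
  exact (Good.comp (κ := fun _ => Unit) (C := fun o _ => C o) hp hfam hgood).of_refines hp (fun _ => ())
    fun (x : Σ _ : Option (Fin G.card), Unit) => { φ x.1 with commutes' := fun r => RingHom.congr_fun (hφ x.1) r }


end Groth.Agent.HTopFrob
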