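import Mathlib.RingTheory.TensorProduct.IncludeLeftSubRight
import Mathlib.RingTheory.Flat.FaithfullyFlat.Basic
import Mathlib.RingTheory.Ideal.Quotient.Operations
import Mathlib.Algebra.CharP.Lemmas

/-!
# Covering families of algebras which descend sections up to a uniform power of the characteristic

A finite family of `A`-algebras is good (for a prime `p` which is zero in `A`) if there is `N` such that after
every base change `R` of `A` the kernel of the restriction to the family is killed by the `p ^ N`-th power,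
and the `p ^ N`-th power of a compatible family comes from `R`.
-/

set_option autoImplicit false
set_option linter.style.haveILetI false

universe u

open TensorProduct

namespace Groth.Agent.HTopFrob

attribute [local instance] Algebra.TensorProduct.rightAlgebra

section lift2

variable {A R B Z : Type u} [CommRing A] [CommRing R] [CommRing B] [CommRing Z] [Algebra A R] [Algebra A B]

/-- A ring map out of a tensor product from two compatible ring maps. -/
noncomputable def lift2 (g : R →+* Z) (h : B →+* Z)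
    (w : ∀ a : A, g (algebraMap A R a) = h (algebraMap A B a)) : R ⊗[A] B →+* Z :=
  letI := (g.comp (algebraMap A R)).toAlgebra
  (Algebra.TensorProduct.lift ({ g with commutes' := fun _ => rfl } : R →ₐ[A] Z)
    ({ h with commutes' := fun a => (w a).symm } : B →ₐ[A] Z) fun _ _ => Commute.all _ _).toRingHom

@[simp]
theorem lift2_tmul (g : R →+* Z) (h : B →+* Z) (w : ∀ a : A, g (algebraMap A R a) = h (algebraMap A B a))
    (r : R) (b : B) : lift2 g h w (r ⊗ₜ b) = g r * h b := by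
  letI := (g.comp (algebraMap A R)).toAlgebra
  rfl

theorem algebraMap_tmul_one (a : A) : algebraMap A R a ⊗ₜ[A] (1 : B) = (1 : R) ⊗ₜ[A] algebraMap A B a := by
  rw [Algebra.algebraMap_eq_smul_one, Algebra.algebraMap_eq_smul_one, TensorProduct.smul_tmul]

theorem hom_ext {g h : R ⊗[A] B →+* Z} (h1 : ∀ r : R, g (r ⊗ₜ 1) = h (r ⊗ₜ 1))
    (h2 : ∀ b : B, g (1 ⊗ₜ b) = h (1 ⊗ₜ b)) : g = h := by
  refine RingHom.ext fun x => ?_
  induction x with
  | zero => simp only [map_zero]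
  | tmul r b =>
    have : r ⊗ₜ[A] b = (r ⊗ₜ[A] (1 : B)) * ((1 : R) ⊗ₜ[A] b) := by
      rw [Algebra.TensorProduct.tmul_mul_tmul, mul_one, one_mul]
    rw [this, map_mul, map_mul, h1, h2]
  | add x y hx hy => simp only [map_add, hx, hy]

end lift2

section power

theorem natCast_eq_zero {A R : Type u} [CommRing A] [CommRing R] [Algebra A R] {p : ℕ} (hp : (p : A) = 0) :
    (p : R) = 0 := by
  rw [← map_natCast (algebraMap A R), hp, map_zero]

theorem add_pow_q {R : Type u} [CommRing R] {p : ℕ} [hP : Fact p.Prime] (hp : (p : R) = 0) (x y : R) (N : ℕ) :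
    (x + y) ^ p ^ N = x ^ p ^ N + y ^ p ^ N := by
  obtain ⟨r, hr⟩ := exists_add_pow_prime_pow_eq hP.out x y N
  rw [hr, hp]
  ring

theorem sub_pow_q {R : Type u} [CommRing R] {p : ℕ} [Fact p.Prime] (hp : (p : R) = 0) (x y : R) (N : ℕ) :
    (x - y) ^ p ^ N = x ^ p ^ N - y ^ p ^ N := by
  rw [eq_sub_iff_add_eq, ← add_pow_q hp, sub_add_cancel]

end power

variable (p : ℕ) {A : Type u} [CommRing A]

/-- Compatible elements of the members of a family. -/
def Compat {ι : Type} (B : ι → Type u) [∀ i, CommRing (B i)] [∀ i, Algebra A (B i)] (R : Type u)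
    [CommRing R] [Algebra A R] (b : ∀ i, R ⊗[A] B i) : Prop :=
  ∀ (i j : ι) (Z : Type u) [CommRing Z] (g : R ⊗[A] B i →+* Z) (h : R ⊗[A] B j →+* Z),
    (∀ r : R, g (r ⊗ₜ 1) = h (r ⊗ₜ 1)) → g (b i) = h (b j)

/-- The family descends with exponent `p ^ N`. -/
def GoodAt (N : ℕ) {ι : Type} (B : ι → Type u) [∀ i, CommRing (B i)] [∀ i, Algebra A (B i)] : Prop :=
  ∀ (R : Type u) [CommRing R] [Algebra A R],
    (∀ x : R, (∀ i, x ⊗ₜ[A] (1 : B i) = 0) → x ^ p ^ N = 0) ∧
    (∀ b : ∀ i, R ⊗[A] B i, Compat B R b → ∃ a : R, ∀ i, a ⊗ₜ[A] (1 : B i) = b i ^ p ^ N)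

/-- The family descends up to a uniform power of the characteristic. -/
def Good {ι : Type} (B : ι → Type u) [∀ i, CommRing (B i)] [∀ i, Algebra A (B i)] : Prop :=
  ∃ N, GoodAt p N (A := A) B

variable {p} [Fact p.Prime]

section basic

variable {ι : Type} {B : ι → Type u} [∀ i, CommRing (B i)] [∀ i, Algebra A (B i)]

theorem GoodAt.mono {N M : ℕ} (h : GoodAt p N (A := A) B) (hNM : N ≤ M) : GoodAt p M (A := A) B := by
  intro R _ _
  obtain ⟨hs, hg⟩ := h R
  obtain ⟨k, rfl⟩ := Nat.exists_eq_add_of_le hNM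
  rw [pow_add]
  refine ⟨fun x hx => by rw [pow_mul, hs x hx, zero_pow (pow_ne_zero _ (NeZero.ne p))], fun b hb => ?_⟩
  obtain ⟨a, ha⟩ := hg b hb
  refine ⟨a ^ p ^ k, fun i => ?_⟩
  rw [pow_mul, ← ha i, Algebra.TensorProduct.tmul_pow, one_pow]

/-- A family receiving maps from `B` being good makes `B` good. -/
theorem Good.of_refines {κ : Type} {C : κ → Type u} [∀ k, CommRing (C k)] [∀ k, Algebra A (C k)]
    (hp : (p : A) = 0) (f : κ → ι) (φ : ∀ k, B (f k) →ₐ[A] C k) (hC : Good p (A := A) C) :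
    Good p (A := A) B := by
  obtain ⟨N, hN⟩ := hC
  refine ⟨N + N, fun R _ _ => ⟨fun x hx => ?_, fun b hb => ?_⟩⟩
  · rw [pow_add, pow_mul, (hN R).1 x fun k => ?_, zero_pow (pow_ne_zero _ (NeZero.ne p))]
    have := congrArg (Algebra.TensorProduct.map (AlgHom.id A R) (φ k)) (hx (f k))
    simpa using this
  let φR : ∀ k, R ⊗[A] B (f k) →+* R ⊗[A] C k := fun k =>
    (Algebra.TensorProduct.map (AlgHom.id A R) (φ k)).toRingHom
  obtain ⟨a, ha⟩ := (hN R).2 (fun k => φR k (b (f k))) (fun k l Z _ g h w =>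
    hb (f k) (f l) Z (g.comp (φR k)) (h.comp (φR l)) fun r => by
      simpa [φR] using w r)
  refine ⟨a ^ p ^ N, fun i => ?_⟩
  have hδ := (hN (R ⊗[A] B i)).1 (a ⊗ₜ 1 - b i ^ p ^ N) fun k => by
    let ι' : R ⊗[A] B i →+* (R ⊗[A] B i) ⊗[A] C k := Algebra.TensorProduct.includeLeftRingHom
    have w : ∀ a₀ : A, ((ι'.comp Algebra.TensorProduct.includeLeftRingHom) (algebraMap A R a₀)) =
        (Algebra.TensorProduct.includeRight : C k →ₐ[A] (R ⊗[A] B i) ⊗[A] C k).toRingHom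
          (algebraMap A (C k) a₀) := fun a₀ => by
      show (algebraMap A R a₀ ⊗ₜ[A] (1 : B i)) ⊗ₜ[A] (1 : C k) = 1 ⊗ₜ[A] algebraMap A (C k) a₀
      rw [← algebraMap_tmul_one a₀, Algebra.TensorProduct.algebraMap_apply]
    let σ := lift2 _ _ w
    have hσ := hb i (f k) _ ι' (σ.comp (φR k)) fun r => by
      simp [ι', σ, φR, Algebra.TensorProduct.one_def]
    show ι' (a ⊗ₜ 1 - b i ^ p ^ N) = 0
    rw [map_sub, map_pow, hσ, RingHom.comp_apply, ← map_pow, ← ha k, sub_eq_zero]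
    simp [ι', σ, Algebra.TensorProduct.one_def]
  rw [sub_pow_q (natCast_eq_zero (A := A) hp), sub_eq_zero, Algebra.TensorProduct.tmul_pow, one_pow] at hδ
  rw [hδ, ← pow_mul, ← pow_add]

/-- A faithfully flat algebra is good. -/
theorem Good.of_faithfullyFlat (S : Type u) [CommRing S] [Algebra A S] [Module.FaithfullyFlat A S] :
    Good p (A := A) (fun _ : Unit => S) := by
  refine ⟨0, fun R _ _ => ?_⟩
  have hinj : Function.Injective (algebraMap R (R ⊗[A] S)) := FaithfulSMul.algebraMap_injective _ _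
  refine ⟨fun x hx => ?_, fun b hb => ?_⟩
  · rw [pow_zero, pow_one]
    exact hinj ((hx ()).trans (map_zero _).symm)
  · have h2 := hb () () ((R ⊗[A] S) ⊗[R] (R ⊗[A] S)) Algebra.TensorProduct.includeLeftRingHom
      Algebra.TensorProduct.includeRight.toRingHom fun r => algebraMap_tmul_one (A := R) r
    obtain ⟨a, ha⟩ := ((Algebra.IsEffective.of_faithfullyFlat R (R ⊗[A] S)) (b ())).1 (by
      rw [Algebra.TensorProduct.includeLeftSubRight_apply, sub_eq_zero]
      exact h2)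
    exact ⟨a, fun _ => by rw [pow_zero, pow_one]; exact ha⟩

/-- Two closed subsets with nilpotent product of ideals. -/
theorem Good.of_quotients {κ : Type} {C : κ → Type u} [∀ k, CommRing (C k)]
    [∀ k, Algebra A (C k)] (I J : Ideal A) {m : ℕ} (hm : (I * J) ^ m = ⊥) (k₁ k₂ : κ)
    (hk : ∀ k, k = k₁ ∨ k = k₂) (h₁ : Function.Surjective (algebraMap A (C k₁)))
    (h₁' : RingHom.ker (algebraMap A (C k₁)) = I) (h₂ : Function.Surjective (algebraMap A (C k₂)))
    (h₂' : RingHom.ker (algebraMap A (C k₂)) = J) : Good p (A := A) C := by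
  obtain ⟨N, hN⟩ : ∃ N, 2 * m ≤ p ^ N :=
    ⟨2 * m, (Nat.lt_pow_self (Fact.out (p := p.Prime)).one_lt).le⟩
  refine ⟨N, fun R _ _ => ?_⟩
  have sur : ∀ k, Function.Surjective (algebraMap A (C k)) → ∀ z : R ⊗[A] C k, ∃ r : R, r ⊗ₜ 1 = z := by
    intro k h z
    induction z with
    | zero => exact ⟨0, TensorProduct.zero_tmul _ _⟩
    | tmul r c =>
      obtain ⟨a, rfl⟩ := h c
      exact ⟨a • r, by rw [TensorProduct.smul_tmul, ← Algebra.algebraMap_eq_smul_one]⟩
    | add x y hx hy =>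
      obtain ⟨r, rfl⟩ := hx
      obtain ⟨s, rfl⟩ := hy
      exact ⟨r + s, TensorProduct.add_tmul _ _ _⟩
  have hom : ∀ k, Function.Surjective (algebraMap A (C k)) → ∀ (K : Ideal R),
      (∀ a ∈ RingHom.ker (algebraMap A (C k)), algebraMap A R a ∈ K) →
        ∃ g : R ⊗[A] C k →+* R ⧸ K, ∀ r, g (r ⊗ₜ 1) = Ideal.Quotient.mk K r := by
    intro k h K hK
    let g₀ : { g : A →+* R ⧸ K // RingHom.ker (algebraMap A (C k)) ≤ RingHom.ker g } :=
      ⟨(Ideal.Quotient.mk K).comp (algebraMap A R), fun a ha => Ideal.Quotient.eq_zero_iff_mem.2 (hK a ha)⟩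
    let h' : C k →+* R ⧸ K := (algebraMap A (C k)).liftOfSurjective h g₀
    exact ⟨lift2 (Ideal.Quotient.mk K) h' fun a =>
      ((algebraMap A (C k)).liftOfSurjective_comp_apply h g₀ a).symm, fun r => by simp⟩
  refine ⟨fun x hx => ?_, fun b hb => ?_⟩
  · have hIJ : ∀ k (K : Ideal A), Function.Surjective (algebraMap A (C k)) →
        RingHom.ker (algebraMap A (C k)) = K → x ∈ K.map (algebraMap A R) := by
      intro k K h h'
      obtain ⟨g, hg⟩ := hom k h (K.map (algebraMap A R)) fun a ha => Ideal.mem_map_of_mem _ (h' ▸ ha)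
      rw [← Ideal.Quotient.eq_zero_iff_mem, ← hg, hx, map_zero]
    have h2 : x * x ∈ (I * J).map (algebraMap A R) := by
      rw [Ideal.map_mul]
      exact Ideal.mul_mem_mul (hIJ k₁ I h₁ h₁') (hIJ k₂ J h₂ h₂')
    have h3 : (x * x) ^ m = 0 := by
      have := Ideal.pow_mem_pow h2 m
      rwa [← Ideal.map_pow, hm, Ideal.map_bot, Ideal.mem_bot] at this
    rw [← sq, ← pow_mul] at h3
    exact pow_eq_zero_of_le hN h3
  · obtain ⟨u, hu⟩ := sur k₁ h₁ (b k₁)
    obtain ⟨v, hv⟩ := sur k₂ h₂ (b k₂)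
    let K := I.map (algebraMap A R) ⊔ J.map (algebraMap A R)
    obtain ⟨g₁, hg₁⟩ := hom k₁ h₁ K fun a ha =>
      Ideal.mem_sup_left (Ideal.mem_map_of_mem _ (h₁' ▸ ha))
    obtain ⟨g₂, hg₂⟩ := hom k₂ h₂ K fun a ha =>
      Ideal.mem_sup_right (Ideal.mem_map_of_mem _ (h₂' ▸ ha))
    have := hb k₁ k₂ _ g₁ g₂ fun r => by rw [hg₁, hg₂]
    rw [← hu, ← hv, hg₁, hg₂, Ideal.Quotient.eq] at this
    obtain ⟨i, hi, j, hj, hij⟩ := Submodule.mem_sup.1 this
    have kill : ∀ k (K : Ideal A), RingHom.ker (algebraMap A (C k)) = K →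
        ∀ y ∈ K.map (algebraMap A R), y ⊗ₜ[A] (1 : C k) = 0 := by
      intro k K h' y hy
      have hle : K.map (algebraMap A R) ≤
          RingHom.ker (Algebra.TensorProduct.includeLeftRingHom : R →+* R ⊗[A] C k) := by
        refine Ideal.map_le_iff_le_comap.2 fun a ha => ?_
        subst h'
        show algebraMap A R a ⊗ₜ[A] (1 : C k) = 0
        rw [algebraMap_tmul_one, RingHom.mem_ker.1 ha, TensorProduct.tmul_zero]
      exact hle hy
    refine ⟨(u - i) ^ p ^ N, fun k => ?_⟩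
    rw [← one_pow (p ^ N), ← Algebra.TensorProduct.tmul_pow]
    congr 1
    rcases hk k with rfl | rfl
    · rw [TensorProduct.sub_tmul, hu, kill _ I h₁' i hi, sub_zero]
    · rw [show u - i = v + j from sub_eq_iff_eq_add.2 (by rw [add_assoc, add_comm j i, hij]; ring),
        TensorProduct.add_tmul, hv, kill _ J h₂' j hj, add_zero]

end basic

section comp

variable {ι : Type} [Finite ι] {B : ι → Type u} [∀ i, CommRing (B i)] [∀ i, Algebra A (B i)]
  {κ : ι → Type} {C : ∀ i, κ i → Type u} [∀ i k, CommRing (C i k)] [∀ i k, Algebra A (C i k)]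
  [∀ i k, Algebra (B i) (C i k)] [∀ i k, IsScalarTower A (B i) (C i k)]

/-- Goodness composes. -/
theorem Good.comp (hp : (p : A) = 0) (hB : Good p (A := A) B) (hC : ∀ i, Good p (A := B i) (C i)) :
    Good p (A := A) (fun x : Σ i, κ i => C x.1 x.2) := by
  classical
  haveI := Fintype.ofFinite ι
  obtain ⟨N₁, hN₁⟩ := hB
  choose M hM using hC
  let N₂ := Finset.univ.sup M
  have hN₂ : ∀ i, GoodAt p N₂ (A := B i) (C i) := fun i => (hM i).mono (Finset.le_sup (Finset.mem_univ i))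
  refine ⟨N₂ + N₂ + N₂ + N₁, fun R _ _ => ?_⟩
  have wθ : ∀ (i : ι) (k : κ i) (a : A), ((Algebra.TensorProduct.includeLeftRingHom :
      R ⊗[A] B i →+* (R ⊗[A] B i) ⊗[B i] C i k).comp Algebra.TensorProduct.includeLeftRingHom)
        (algebraMap A R a) =
      (Algebra.TensorProduct.includeRight :
        C i k →ₐ[B i] (R ⊗[A] B i) ⊗[B i] C i k).toRingHom (algebraMap A (C i k) a) := fun i k a => by
    show (algebraMap A R a ⊗ₜ[A] (1 : B i)) ⊗ₜ[B i] (1 : C i k) = 1 ⊗ₜ[B i] algebraMap A (C i k) a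
    rw [algebraMap_tmul_one, IsScalarTower.algebraMap_apply A (B i) (C i k) a]
    exact algebraMap_tmul_one (A := B i) (R := R ⊗[A] B i) (algebraMap A (B i) a)
  let θ : ∀ i k, R ⊗[A] C i k →+* (R ⊗[A] B i) ⊗[B i] C i k := fun i k => lift2 _ _ (wθ i k)
  have wψ₀ : ∀ (i : ι) (k : κ i) (a : A), (Algebra.TensorProduct.includeLeftRingHom :
      R →+* R ⊗[A] C i k) (algebraMap A R a) =
      ((Algebra.TensorProduct.includeRight : C i k →ₐ[A] R ⊗[A] C i k).toRingHom.comp
        (algebraMap (B i) (C i k))) (algebraMap A (B i) a) := fun i k a => by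
    show algebraMap A R a ⊗ₜ[A] (1 : C i k) = 1 ⊗ₜ[A] _
    rw [algebraMap_tmul_one, ← IsScalarTower.algebraMap_apply]
  have wψ : ∀ (i : ι) (k : κ i) (b : B i), lift2 _ _ (wψ₀ i k) (algebraMap (B i) (R ⊗[A] B i) b) =
      (Algebra.TensorProduct.includeRight : C i k →ₐ[A] R ⊗[A] C i k).toRingHom
        (algebraMap (B i) (C i k) b) := fun i k b => by
    show lift2 _ _ (wψ₀ i k) (1 ⊗ₜ b) = _
    rw [lift2_tmul, map_one, one_mul]
    rfl
  let ψ : ∀ i k, (R ⊗[A] B i) ⊗[B i] C i k →+* R ⊗[A] C i k := fun i k => lift2 _ _ (wψ i k)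
  have hψθ : ∀ i k, (ψ i k).comp (θ i k) = RingHom.id _ := fun i k =>
    hom_ext (fun r => by simp [ψ, θ, Algebra.TensorProduct.one_def])
      (fun c => by simp [ψ, θ, Algebra.TensorProduct.one_def])
  have hθl : ∀ i k r, θ i k (r ⊗ₜ 1) = (r ⊗ₜ[A] (1 : B i)) ⊗ₜ[B i] (1 : C i k) := fun i k r => by
    simp [θ]
  have hq : ∀ n, p ^ n ≠ 0 := fun n => pow_ne_zero _ (NeZero.ne p)
  refine ⟨fun x hx => ?_, fun c hc => ?_⟩
  · have h1 : ∀ i, (x ⊗ₜ[A] (1 : B i)) ^ p ^ N₂ = 0 := fun i =>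
      (hN₂ i (R ⊗[A] B i)).1 _ fun k => by rw [← hθl, hx ⟨i, k⟩, map_zero]
    have h2 := (hN₁ R).1 (x ^ p ^ N₂) fun i => by
      rw [← one_pow (p ^ N₂), ← Algebra.TensorProduct.tmul_pow]; exact h1 i
    rw [← pow_mul, ← pow_add] at h2
    exact pow_eq_zero_of_le (pow_le_pow_right₀ (Fact.out (p := p.Prime)).one_le (by omega)) h2
  · have hc' : ∀ i, Compat (A := B i) (C i) (R ⊗[A] B i) fun k => θ i k (c ⟨i, k⟩) :=
      fun i k l Z _ g h w => hc ⟨i, k⟩ ⟨i, l⟩ Z (g.comp (θ i k)) (h.comp (θ i l)) fun r => by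
        simpa [hθl] using w (r ⊗ₜ 1)
    choose β hβ using fun i => (hN₂ i (R ⊗[A] B i)).2 _ (hc' i)
    have key : Compat B R fun i => β i ^ p ^ (N₂ + N₂) := by
      intro i j Z _ g h w
      letI : Algebra (B i) Z := (g.comp (algebraMap (B i) (R ⊗[A] B i))).toAlgebra
      have hx : ((g (β i) - h (β j)) ^ p ^ N₂) ^ p ^ N₂ = 0 := by
        refine (hN₂ i Z).1 _ fun k => ?_
        rw [← one_pow (p ^ N₂), ← Algebra.TensorProduct.tmul_pow]
        let ι₁ : Z →+* Z ⊗[B i] C i k := Algebra.TensorProduct.includeLeftRingHom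
        show (ι₁ (g (β i) - h (β j))) ^ p ^ N₂ = 0
        letI : Algebra (B j) (Z ⊗[B i] C i k) :=
          ((ι₁.comp h).comp (algebraMap (B j) (R ⊗[A] B j))).toAlgebra
        refine (hN₂ j (Z ⊗[B i] C i k)).1 _ fun l => ?_
        let ι₂ : Z ⊗[B i] C i k →+* (Z ⊗[B i] C i k) ⊗[B j] C j l :=
          Algebra.TensorProduct.includeLeftRingHom
        show ι₂ (ι₁ (g (β i) - h (β j))) = 0
        let G : (R ⊗[A] B i) ⊗[B i] C i k →+* (Z ⊗[B i] C i k) ⊗[B j] C j l :=
          lift2 ((ι₂.comp ι₁).comp g) (ι₂.comp Algebra.TensorProduct.includeRight.toRingHom) fun b => by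
            show ι₂ (ι₁ (algebraMap (B i) Z b)) = ι₂ (1 ⊗ₜ algebraMap (B i) (C i k) b)
            rw [← algebraMap_tmul_one]
            rfl
        let H : (R ⊗[A] B j) ⊗[B j] C j l →+* (Z ⊗[B i] C i k) ⊗[B j] C j l :=
          lift2 ((ι₂.comp ι₁).comp h) Algebra.TensorProduct.includeRight.toRingHom fun b => by
            show ι₂ (algebraMap (B j) (Z ⊗[B i] C i k) b) = 1 ⊗ₜ algebraMap (B j) (C j l) b
            rw [← algebraMap_tmul_one]
            rfl
        have e := hc ⟨i, k⟩ ⟨j, l⟩ _ (G.comp (θ i k)) (H.comp (θ j l)) fun r => by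
          simp [hθl, G, H, w r, ι₁, ι₂, Algebra.TensorProduct.one_def]
        have e1 : G (θ i k (c ⟨i, k⟩) ^ p ^ N₂) = ι₂ (ι₁ (g (β i))) := by
          rw [← hβ i k]; simp [G, ι₁, ι₂]
        have e2 : H (θ j l (c ⟨j, l⟩) ^ p ^ N₂) = ι₂ (ι₁ (h (β j))) := by
          rw [← hβ j l]; simp [H, ι₁, ι₂, Algebra.TensorProduct.one_def]
        rw [map_sub, map_sub, ← e1, ← e2, map_pow, map_pow, sub_eq_zero]
        exact congrArg (· ^ p ^ N₂) e
      have hZ : (p : Z) = 0 := by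
        rw [← map_natCast g, natCast_eq_zero (A := A) (R := R ⊗[A] B i) hp, map_zero]
      rw [← pow_mul, ← pow_add, sub_pow_q hZ, sub_eq_zero, ← map_pow, ← map_pow] at hx
      exact hx
    obtain ⟨a, ha⟩ := (hN₁ R).2 _ key
    refine ⟨a, fun ⟨i, k⟩ => ?_⟩
    have h1 : ψ i k (((β i ^ p ^ (N₂ + N₂)) ^ p ^ N₁) ⊗ₜ[B i] (1 : C i k)) =
        c ⟨i, k⟩ ^ p ^ (N₂ + N₂ + N₂ + N₁) := by
      rw [← pow_mul, ← pow_add, ← one_pow (M := C i k) (p ^ (N₂ + N₂ + N₁)),
        ← Algebra.TensorProduct.tmul_pow, hβ i k, map_pow, map_pow, ← RingHom.comp_apply, hψθ,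
        RingHom.id_apply, ← pow_mul, ← pow_add]
      congr 2
      omega
    rw [← ha i, ← hθl, ← RingHom.comp_apply, hψθ, RingHom.id_apply] at h1
    exact h1

end comp

end Groth.Agent.HTopFrob
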