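import Groth.Agent.HTopFrob.Domain
import Mathlib.RingTheory.Noetherian.Basic

/-!
# Noetherian induction for descent up to a power of the characteristic
-/

set_option autoImplicit false
set_option linter.style.haveILetI false
set_option maxHeartbeats 1000000

universe u

open TensorProduct

namespace Groth.Agent.HTopFrob

variable {p : ℕ} [Fact p.Prime]

/-- Splitting along two ideals with zero product. -/
theorem good_of_mul_eq_zero {A R B : Type u} [CommRing A] [CommRing R] [Algebra A R] [CommRing B] [Algebra A B]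
    (hp : (p : R) = 0) {a b : R} (hab : a * b = 0)
    (ha : Good p (A := R ⧸ Ideal.span {a}) (fun _ : Unit => (R ⧸ Ideal.span {a}) ⊗[A] B))
    (hb : Good p (A := R ⧸ Ideal.span {b}) (fun _ : Unit => (R ⧸ Ideal.span {b}) ⊗[A] B)) :
    Good p (A := R) (fun _ : Unit => R ⊗[A] B) := by
  let ab : Bool → R := fun c => if c then a else b
  have h1 : Good p (A := R) (fun c => R ⧸ Ideal.span {ab c}) :=
    Good.of_quotients (Ideal.span {a}) (Ideal.span {b}) (m := 1)
      (by rw [pow_one, Ideal.span_singleton_mul_span_singleton, hab, Ideal.span_singleton_eq_bot])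
      true false (fun c => by cases c <;> simp) Ideal.Quotient.mk_surjective Ideal.mk_ker
      Ideal.Quotient.mk_surjective Ideal.mk_ker
  have h2 : ∀ c, Good p (A := R ⧸ Ideal.span {ab c}) (fun _ : Unit => (R ⧸ Ideal.span {ab c}) ⊗[A] B) := by
    intro c
    cases c
    exacts [hb, ha]
  refine Good.of_refines hp (fun _ => ()) (fun x : Σ _ : Bool, Unit => ?_)
    (Good.comp (κ := fun _ => Unit) (C := fun c _ => (R ⧸ Ideal.span {ab c}) ⊗[A] B) hp h1 h2)
  exact Algebra.TensorProduct.map (Algebra.ofId R (R ⧸ Ideal.span {ab x.1})) (AlgHom.id A B)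

/-- A valuative covering algebra of finite type over a Noetherian ring is good. -/
theorem good_of_valCover {A B : Type u} [CommRing A] [IsNoetherianRing A] [CommRing B] [Algebra A B]
    [Algebra.FiniteType A B] (hp : (p : A) = 0) (hB : ValCover A B) :
    Good p (A := A) (fun _ : Unit => B) := by
  suffices H : ∀ (I : Ideal A) (R : Type u) [CommRing R] [Algebra A R],
      Function.Surjective (algebraMap A R) → RingHom.ker (algebraMap A R) = I →
        Good p (A := R) (fun _ : Unit => R ⊗[A] B) by
    have h := H _ A (fun a => ⟨a, rfl⟩) rfl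
    exact h.of_refines hp (fun _ => ()) fun _ => Algebra.TensorProduct.includeRight
  intro I
  induction I using IsNoetherian.induction with
  | hgt I ih =>
    intro R _ _ hsur hker
    subst hker
    have hpR : (p : R) = 0 := natCast_eq_zero (A := A) hp
    have step : ∀ (J : Ideal R), J ≠ ⊥ → Good p (A := R ⧸ J) (fun _ : Unit => (R ⧸ J) ⊗[A] B) := by
      intro J hJ
      refine ih (RingHom.ker (algebraMap A (R ⧸ J))) ?_ (R ⧸ J)
        ((IsScalarTower.algebraMap_eq A R (R ⧸ J)).symm ▸ Ideal.Quotient.mk_surjective.comp hsur) rfl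
      refine lt_of_le_not_ge (fun a ha => ?_) fun hle => hJ (le_bot_iff.1 fun r hr => ?_)
      · rw [RingHom.mem_ker, IsScalarTower.algebraMap_apply A R (R ⧸ J), RingHom.mem_ker.1 ha, map_zero]
      · obtain ⟨a, rfl⟩ := hsur r
        exact RingHom.mem_ker.1 (hle (RingHom.mem_ker.2
          ((IsScalarTower.algebraMap_apply A R (R ⧸ J) a).trans (Ideal.Quotient.eq_zero_iff_mem.2 hr))))
    rcases subsingleton_or_nontrivial R with hR | hR
    · exact Good.of_subsingleton _
    by_cases hdom : ∀ a b : R, a * b = 0 → a = 0 ∨ b = 0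
    · haveI : NoZeroDivisors R := ⟨fun {a b} => hdom a b⟩
      haveI : IsDomain R := NoZeroDivisors.to_isDomain R
      haveI : IsNoetherianRing R := isNoetherianRing_of_surjective A R (algebraMap A R) hsur
      refine good_of_domain hpR (hB.baseChange R) fun J hJ =>
        ⟨CommRingCat.of ((R ⧸ J) ⊗[A] B), inferInstanceAs (Algebra (R ⧸ J) ((R ⧸ J) ⊗[A] B)), step J hJ,
          (Algebra.TensorProduct.map (IsScalarTower.toAlgHom A R (R ⧸ J)) (AlgHom.id A B)).toRingHom, ?_⟩
      exact RingHom.ext fun r => (Algebra.TensorProduct.map_tmul _ _ r 1).trans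
        (congrArg (_ ⊗ₜ ·) rfl)
    · push Not at hdom
      obtain ⟨a, b, hab, ha, hb⟩ := hdom
      refine good_of_mul_eq_zero hpR hab (step _ ?_) (step _ ?_)
      · rwa [Ne, Ideal.span_singleton_eq_bot]
      · rwa [Ne, Ideal.span_singleton_eq_bot]

end Groth.Agent.HTopFrob
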