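import Groth.Agent.HTopFrob.Blowup
import Groth.Agent.EtValLib.Decomposition
import Groth.Agent.HTopUltra.Model
import Mathlib.RingTheory.Flat.FaithfullyFlat.Algebra
import Mathlib.RingTheory.Flat.TorsionFree
import Mathlib.RingTheory.Flat.Localization
import Mathlib.RingTheory.Valuation.LocalSubring
import Mathlib.RingTheory.Spectrum.Prime.Chevalley
import Mathlib.FieldTheory.IsAlgClosed.AlgebraicClosure

/-!
# Valuative coverings of Noetherian rings in characteristic `p` descend sections up to a power of `p`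

Over a Noetherian domain the algebra acquires, on an open piece of every valuation ring of the fraction field, a
point in a localisation of a finite free algebra; finitely many such pieces live on one blow-up, whose total
transform is good.  Noetherian induction does the rest.
-/

set_option autoImplicit false
set_option linter.style.haveILetI false
set_option maxHeartbeats 1000000

universe u

open TensorProduct

namespace Groth.Agent.HTopFrob

variable {p : ℕ} [Fact p.Prime]

/-- Points with values in valuation rings of algebraically closed fields lift. -/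
def ValCover (A B : Type u) [CommRing A] [CommRing B] [Algebra A B] : Prop :=
  ∀ (K : Type u) [Field K] [IsAlgClosed K] (O : ValuationSubring K) (χ : A →+* O),
    ∃ ψ : B →+* O, ψ.comp (algebraMap A B) = χ

/-- The piece of the space of valuations cut out by `S` carries a faithfully flat algebra receiving `B`. -/
def HasChart (R B : Type u) [CommRing R] [CommRing B] [Algebra R B] {K : Type u} [Field K] [Algebra R K]
    (S : Finset K) : Prop :=
  ∃ (D C : CommRingCat.{u}) (_ : Algebra D C) (ρ : D →+* K) (ι₀ : R →+* D),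
    Function.Injective ρ ∧ ρ.comp ι₀ = algebraMap R K ∧
    (∀ d, ρ d ∈ Subring.closure (Set.range (algebraMap R K) ∪ ↑S)) ∧ Module.FaithfullyFlat D C ∧
    ∃ ψ : B →+* C, ψ.comp (algebraMap R B) = (algebraMap D C).comp ι₀

/-- A localisation of a finite free algebra, made faithfully flat over an open set of the base. -/
theorem hasChart_of_data {R B : Type u} [CommRing R] [CommRing B] [Algebra R B]
    {K : Type u} [Field K] [Algebra R K] (A₀ : Subalgebra R K) (M : Type u) [CommRing M] [Algebra A₀ M]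
    [Module.Finite A₀ M] [Module.Free A₀ M] (h : M) (ψ : B →+* Localization.Away h)
    (hψ : ψ.comp (algebraMap R B) = ((algebraMap A₀ (Localization.Away h)).comp (algebraMap R A₀)))
    (O : ValuationSubring K) (hA₀ : ∀ x ∈ A₀, x ∈ O)
    (P : Ideal (Localization.Away h)) [P.IsPrime]
    (hP : ∀ x : A₀, (x : K) ∈ O.nonunits ↔ algebraMap A₀ (Localization.Away h) x ∈ P)
    (S₀ : Finset K) (hS₀ : ∀ x ∈ A₀, x ∈ Subring.closure (Set.range (algebraMap R K) ∪ ↑S₀))
    (hS₀O : ↑S₀ ⊆ (O : Set K)) :
    ∃ S : Finset K, ↑S ⊆ (O : Set K) ∧ HasChart R B S := by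
  classical
  let C₀ := Localization.Away h
  haveI : Module.FinitePresentation A₀ M := Module.finitePresentation_of_projective A₀ M
  haveI : Algebra.FinitePresentation A₀ M := Algebra.FinitePresentation.of_finitePresentation A₀ M
  haveI : Algebra.FinitePresentation A₀ C₀ :=
    haveI : Algebra.FinitePresentation M C₀ := IsLocalization.Away.finitePresentation h
    Algebra.FinitePresentation.trans A₀ M C₀
  haveI : Module.Flat M C₀ := IsLocalization.flat C₀ (Submonoid.powers h)
  haveI : Module.Flat A₀ C₀ := Module.Flat.trans A₀ M C₀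
  have hopen := (PrimeSpectrum.isOpenMap_comap_of_hasGoingDown_of_finitePresentation
    (R := A₀) (S := C₀)).isOpen_range
  obtain ⟨-, ⟨a, rfl⟩, hqa, hsub⟩ := PrimeSpectrum.isTopologicalBasis_basic_opens.exists_subset_of_mem_open
    (show PrimeSpectrum.comap (algebraMap A₀ C₀) ⟨P, inferInstance⟩ ∈
      Set.range (PrimeSpectrum.comap (algebraMap A₀ C₀)) from ⟨_, rfl⟩) hopen
  have haP : algebraMap A₀ C₀ a ∉ P := hqa
  have haO : (a : K) ∉ O.nonunits := fun h' => haP ((hP a).1 h')
  have ha0 : (a : K) ≠ 0 := fun h' => haO (by rw [h', O.mem_nonunits_iff, map_zero]; exact zero_lt_one)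
  have hainv : (a : K)⁻¹ ∈ O := by
    rw [O.mem_nonunits_iff, not_lt] at haO
    rw [← O.valuation_le_one_iff, map_inv₀]
    exact inv_le_one_of_one_le₀ haO
  let D := Localization.Away a
  let ρ : D →+* K := IsLocalization.Away.lift a (g := A₀.val.toRingHom) (isUnit_iff_ne_zero.2 ha0)
  have hρa : ∀ y : A₀, ρ (algebraMap A₀ D y) = y := fun y => IsLocalization.Away.lift_eq a _ y
  refine ⟨insert (a : K)⁻¹ S₀, ?_, CommRingCat.of D, CommRingCat.of (D ⊗[A₀] C₀),
    inferInstanceAs (Algebra D (D ⊗[A₀] C₀)), ρ, (algebraMap A₀ D).comp (algebraMap R A₀), ?_, ?_, ?_, ?_,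
    (Algebra.TensorProduct.includeRight : C₀ →ₐ[A₀] D ⊗[A₀] C₀).toRingHom.comp ψ, ?_⟩
  · rw [Finset.coe_insert]
    exact Set.insert_subset hainv hS₀O
  · refine (injective_iff_map_eq_zero ρ).2 fun d hd => ?_
    obtain ⟨⟨y, s⟩, hs⟩ := IsLocalization.surj (Submonoid.powers a) d
    have : (y : K) = 0 := by rw [← hρa, ← hs, map_mul, hd, zero_mul]
    have hy : y = 0 := Subtype.ext this
    rw [hy, map_zero] at hs
    exact (IsLocalization.map_units D s).mul_left_eq_zero.1 hs
  · exact RingHom.ext fun r => hρa (algebraMap R A₀ r)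
  · intro d
    obtain ⟨⟨y, ⟨_, n, rfl⟩⟩, hs⟩ := IsLocalization.surj (Submonoid.powers a) d
    have : ρ d = (y : K) * ((a : K)⁻¹) ^ n := by
      rw [inv_pow, eq_mul_inv_iff_mul_eq₀ (pow_ne_zero _ ha0), ← hρa y, ← hs, map_mul]
      congr 1
      show _ = ρ (algebraMap A₀ D (a ^ n))
      rw [hρa]; simp
    rw [this]
    refine mul_mem (Subring.closure_mono ?_ (hS₀ y y.2)) (pow_mem (Subring.subset_closure (Set.mem_union_right _ ?_)) n)
    · exact Set.union_subset_union_right _ (by rw [Finset.coe_insert]; exact Set.subset_insert _ _)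
    · exact Finset.mem_insert_self _ _
  · show Module.FaithfullyFlat D (D ⊗[A₀] C₀)
    refine Module.FaithfullyFlat.of_comap_surjective fun q => ?_
    have hq : PrimeSpectrum.comap (algebraMap A₀ D) q ∈ PrimeSpectrum.basicOpen a := fun h' =>
      q.2.ne_top (Ideal.eq_top_of_isUnit_mem _ h' (IsLocalization.Away.algebraMap_isUnit a))
    obtain ⟨r, hr⟩ := hsub hq
    let E := Localization.Away (algebraMap A₀ C₀ a)
    have hEu : IsUnit ((algebraMap C₀ E).comp (algebraMap A₀ C₀) a) :=
      IsLocalization.Away.algebraMap_isUnit (S := E) (algebraMap A₀ C₀ a)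
    let δ : D →+* E := IsLocalization.Away.lift a hEu
    let γ : D ⊗[A₀] C₀ →+* E := lift2 δ (algebraMap C₀ E) fun y => IsLocalization.Away.lift_eq a hEu y
    have hra : algebraMap A₀ C₀ a ∉ r.asIdeal := fun h' => hq (hr ▸ h')
    obtain ⟨r', hr'⟩ : ∃ r' : PrimeSpectrum E, PrimeSpectrum.comap (algebraMap C₀ E) r' = r := by
      have := PrimeSpectrum.localization_away_comap_range E (algebraMap A₀ C₀ a)
      exact (Set.ext_iff.1 this r).2 hra
    refine ⟨PrimeSpectrum.comap γ r', PrimeSpectrum.localization_comap_injective D (Submonoid.powers a) ?_⟩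
    rw [← hr, ← hr']
    simp only [← PrimeSpectrum.comap_comp_apply]
    refine congrArg (fun φ => PrimeSpectrum.comap φ r') (RingHom.ext fun y => ?_)
    show γ (algebraMap A₀ D y ⊗ₜ 1) = algebraMap C₀ E (algebraMap A₀ C₀ y)
    rw [lift2_tmul, map_one, mul_one]
    exact IsLocalization.Away.lift_eq a hEu y
  · refine RingHom.ext fun r => ?_
    show (1 : D) ⊗ₜ[A₀] ψ (algebraMap R B r) = algebraMap A₀ D (algebraMap R A₀ r) ⊗ₜ[A₀] (1 : C₀)
    rw [show ψ (algebraMap R B r) = _ from RingHom.congr_fun hψ r]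
    exact (algebraMap_tmul_one _).symm

/-- Every valuation ring of the fraction field has a chart. -/
theorem exists_chart {R B : Type u} [CommRing R] [IsDomain R] [CommRing B] [Algebra R B]
    [Algebra.FiniteType R B] (hB : ValCover R B) {K : Type u} [Field K] [Algebra R K] [IsFractionRing R K]
    (O : ValuationSubring K) (hO : Set.range (algebraMap R K) ⊆ (O : Set K)) :
    ∃ S : Finset K, ↑S ⊆ (O : Set K) ∧ HasChart R B S := by
  classical
  let Ka := AlgebraicClosure K
  let f : O →+* Ka := (algebraMap K Ka).comp O.subtype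
  obtain ⟨Oa, hOa, hloc⟩ : ∃ Oa : ValuationSubring Ka, (∀ x : O, f x ∈ Oa) ∧
      ∀ x : O, ¬ IsUnit x → f x ∈ Oa.nonunits := by
    obtain ⟨Oa, hle, hl⟩ := IsLocalRing.exists_factor_valuationRing f
    exact ⟨Oa, hle, fun x hx => Oa.coe_mem_nonunits_iff.2
      ((IsLocalRing.mem_maximalIdeal (⟨f x, hle x⟩ : Oa)).2 fun hu => hx (hl.map_nonunit x hu))⟩
  let χ : R →+* Oa := ((algebraMap K Ka).comp (algebraMap R K)).codRestrict Oa.toSubring
    fun r => hOa ⟨algebraMap R K r, hO ⟨r, rfl⟩⟩
  obtain ⟨ψ₀, hψ₀⟩ := hB Ka Oa χ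
  obtain ⟨s, hs⟩ := ‹Algebra.FiniteType R B›.out
  let z : B → Ka := fun b => (ψ₀ b : Ka)
  let F : IntermediateField K Ka := IntermediateField.adjoin K (z '' ↑s)
  haveI : FiniteDimensional K F := by
    haveI : Finite (z '' (↑s : Set B)) := (s.finite_toSet.image z).to_subtype
    exact IntermediateField.finiteDimensional_adjoin fun x _ => Algebra.IsIntegral.isIntegral x
  let V : ValuationSubring F := Oa.comap (algebraMap F Ka)
  have hAV : ∀ x : O, V.valuation (algebraMap O F x) ≤ 1 := fun x =>
    (V.valuation_le_one_iff _).2 (hOa x)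
  have hzF : ∀ b ∈ s, z b ∈ F := fun b hb => IntermediateField.subset_adjoin K _ ⟨b, hb, rfl⟩
  have hfrac : ∀ b : {b // b ∈ s}, ∃ a d : F, IsIntegral O a ∧ IsIntegral O d ∧ V.valuation d = 1 ∧
      (⟨z b, hzF b b.2⟩ : F) * d = a := fun b =>
    EtValLib.exists_fraction (A := O) (K := K) hAV ((V.valuation_le_one_iff _).2 (ψ₀ b.1).2)
  choose a d ha hd hdv had using hfrac
  let G : Set F := Set.range a ∪ Set.range d
  let T := Algebra.adjoin O G
  haveI : Module.Finite O T := Module.Finite.of_fg (fg_adjoin_of_finite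
    ((Set.finite_range a).union (Set.finite_range d)) (by rintro x (⟨b, rfl⟩ | ⟨b, rfl⟩) <;> simp [ha, hd]))
  haveI hinj : FaithfulSMul O F := (faithfulSMul_iff_algebraMap_injective _ _).2
    ((algebraMap K F).injective.comp Subtype.coe_injective)
  haveI : Module.IsTorsionFree O F := Module.IsTorsionFree.trans_faithfulSMul O F F
  haveI : Module.Flat O T := by
    rw [Module.Flat.flat_iff_torsion_eq_bot_of_isBezout, ← Submodule.isTorsionFree_iff_torsion_eq_bot]
    infer_instance
  haveI : Module.Free O T := Module.free_of_flat_of_isLocalRing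
  let e := Module.Free.chooseBasis O T
  have hone : (1 : F) ∈ T := one_mem _
  have haT : ∀ b, a b ∈ T := fun b => Algebra.subset_adjoin (Or.inl ⟨b, rfl⟩)
  have hdT : ∀ b, d b ∈ T := fun b => Algebra.subset_adjoin (Or.inr ⟨b, rfl⟩)
  let ι := Module.Free.ChooseBasisIndex O T
  let coef : T → Finset K := fun x => Finset.univ.image fun i => ((e.repr x i : O) : K)
  let S₀ : Finset K := coef 1 ∪ (Finset.univ.biUnion fun i : ι × ι => coef (e i.1 * e i.2)) ∪
    (Finset.univ.biUnion fun b => coef ⟨a b, haT b⟩) ∪ Finset.univ.biUnion fun b => coef ⟨d b, hdT b⟩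
  have hS₀O : ↑S₀ ⊆ (O : Set K) := by
    intro x hx
    simp only [S₀, coef, Finset.coe_union, Set.mem_union, Finset.coe_biUnion, Set.mem_iUnion, Finset.coe_image,
      Set.mem_image] at hx
    rcases hx with ((⟨i, -, rfl⟩ | ⟨_, _, i, -, rfl⟩) | ⟨_, _, i, -, rfl⟩) | ⟨_, _, i, -, rfl⟩ <;>
      exact SetLike.coe_mem _
  let A₀ := Algebra.adjoin R (↑S₀ : Set K)
  have hA₀ : ∀ x ∈ A₀, x ∈ O := fun x hx => by
    induction hx using Algebra.adjoin_induction with
    | mem y hy => exact hS₀O hy
    | algebraMap r => exact hO ⟨r, rfl⟩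
    | add y z _ _ hy hz => exact add_mem hy hz
    | mul y z _ _ hy hz => exact mul_mem hy hz
  have hA₀c : ∀ x ∈ A₀, x ∈ Subring.closure (Set.range (algebraMap R K) ∪ ↑S₀) := fun x hx => by
    rw [← SetLike.mem_coe] at hx
    have := hx
    rw [← Algebra.adjoin_eq_ring_closure]
    exact hx
  let v : ι → F := fun i => (e i : F)
  have hliO : LinearIndependent O v := e.linearIndependent.map' T.val.toLinearMap
    (LinearMap.ker_eq_bot.2 Subtype.coe_injective)
  have hli : LinearIndependent A₀ v := by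
    refine ((LinearIndependent.iff_fractionRing O K).1 hliO).restrict_scalars ?_
    intro x y hxy
    simpa [Algebra.smul_def] using hxy
  let N := Submodule.span A₀ (Set.range v)
  have hmem : ∀ x : T, (∀ i, ((e.repr x i : O) : K) ∈ S₀) → (x : F) ∈ N := by
    intro x hx
    have hsum : (x : F) = ∑ i, (e.repr x i) • v i := by
      have := congrArg T.val (e.sum_repr x)
      simp only [map_sum, map_smul] at this
      exact this.symm
    rw [hsum]
    refine sum_mem fun i _ => ?_
    have : (e.repr x i) • v i = (⟨_, Algebra.subset_adjoin (hx i)⟩ : A₀) • v i := by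
      simp only [Algebra.smul_def]
      rfl
    rw [this]
    exact N.smul_mem _ (Submodule.subset_span ⟨i, rfl⟩)
  have hN1 : (1 : F) ∈ N := hmem 1 fun i => by simp [S₀, coef]
  have hNm : ∀ x y, x ∈ N → y ∈ N → x * y ∈ N := by
    intro x y hx hy
    induction hx using Submodule.span_induction with
    | mem x hx =>
      obtain ⟨i, rfl⟩ := hx
      induction hy using Submodule.span_induction with
      | mem y hy =>
        obtain ⟨j, rfl⟩ := hy
        refine hmem (e i * e j) fun k => ?_
        simp only [S₀, Finset.mem_union, Finset.mem_biUnion]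
        exact Or.inl (Or.inl (Or.inr ⟨(i, j), Finset.mem_univ _, Finset.mem_image.2 ⟨k, Finset.mem_univ _, rfl⟩⟩))
      | zero => rw [mul_zero]; exact zero_mem _
      | add y z _ _ hy hz => rw [mul_add]; exact add_mem hy hz
      | smul c y _ hy => rw [mul_smul_comm]; exact N.smul_mem _ hy
    | zero => rw [zero_mul]; exact zero_mem _
    | add x z _ _ hx hz => rw [add_mul]; exact add_mem hx hz
    | smul c x _ hx => rw [smul_mul_assoc]; exact N.smul_mem _ hx
  let M : Subalgebra A₀ F := N.toSubalgebra hN1 hNm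
  haveI : Module.Free A₀ M := Module.Free.of_basis (ι := ι) (Module.Basis.span hli)
  haveI : Module.Finite A₀ M := Module.Finite.of_fg (Submodule.fg_span (Set.finite_range v))
  have haN : ∀ b, a b ∈ M := fun b => hmem ⟨a b, haT b⟩ fun i => by
    simp only [S₀, Finset.mem_union, Finset.mem_biUnion]
    exact Or.inl (Or.inr ⟨b, Finset.mem_univ _, Finset.mem_image.2 ⟨i, Finset.mem_univ _, rfl⟩⟩)
  have hdN : ∀ b, d b ∈ M := fun b => hmem ⟨d b, hdT b⟩ fun i => by
    simp only [S₀, Finset.mem_union, Finset.mem_biUnion]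
    exact Or.inr ⟨b, Finset.mem_univ _, Finset.mem_image.2 ⟨i, Finset.mem_univ _, rfl⟩⟩
  let h : M := ∏ b, ⟨d b, hdN b⟩
  have hcoe : (h : F) = ∏ b, d b := by simp [h]
  have hhv : V.valuation (h : F) = 1 := by rw [hcoe, map_prod]; simp [hdv]
  have hh0 : (h : F) ≠ 0 := fun h' => by rw [h', map_zero] at hhv; exact zero_ne_one hhv
  let L := Localization.Away h
  let μ : L →+* Ka := IsLocalization.Away.lift h (g := (algebraMap F Ka).comp M.val.toRingHom)
    (isUnit_iff_ne_zero.2 (show algebraMap F Ka (h : F) ≠ 0 from (map_ne_zero _).2 hh0))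
  have hμ : ∀ m : M, μ (algebraMap M L m) = algebraMap F Ka m := fun m => IsLocalization.Away.lift_eq h _ m
  have hμinj : Function.Injective μ := (injective_iff_map_eq_zero μ).2 fun l hl => by
    obtain ⟨⟨y, t⟩, ht⟩ := IsLocalization.surj (Submonoid.powers h) l
    have hy : algebraMap F Ka (y : F) = 0 := by rw [← hμ, ← ht, map_mul, hl, zero_mul]
    have hy0 : y = 0 := Subtype.ext ((map_eq_zero _).1 hy)
    rw [hy0, map_zero] at ht
    exact (IsLocalization.map_units L t).mul_left_eq_zero.1 ht
  have hA₀L : ∀ x : A₀, μ (algebraMap A₀ L x) = algebraMap K Ka x := fun x => by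
    rw [IsScalarTower.algebraMap_apply A₀ M L, hμ]
    rfl
  have hzL : ∀ b, z b ∈ μ.range := by
    intro b
    have hb : b ∈ Algebra.adjoin R (↑s : Set B) := hs ▸ Algebra.mem_top
    induction hb using Algebra.adjoin_induction with
    | mem b hb =>
      refine ⟨algebraMap M L (⟨a ⟨b, hb⟩, haN _⟩ * ∏ c ∈ Finset.univ.erase ⟨b, hb⟩, ⟨d c, hdN c⟩) *
        IsLocalization.Away.invSelf h, ?_⟩
      have hinv : μ (IsLocalization.Away.invSelf h) * algebraMap F Ka h = 1 := by
        rw [← hμ h, ← map_mul, mul_comm, IsLocalization.Away.mul_invSelf, map_one]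
      have : (⟨z b, hzF b hb⟩ : F) * (h : F) =
          ((⟨a ⟨b, hb⟩, haN _⟩ * ∏ c ∈ Finset.univ.erase ⟨b, hb⟩, ⟨d c, hdN c⟩ : M) : F) := by
        rw [hcoe, ← Finset.mul_prod_erase Finset.univ d (Finset.mem_univ ⟨b, hb⟩), ← mul_assoc, had ⟨b, hb⟩]
        simp
      rw [map_mul, hμ, ← this, map_mul, mul_assoc, mul_comm (algebraMap F Ka _) (μ _), hinv, mul_one]
      rfl
    | algebraMap r =>
      refine ⟨algebraMap A₀ L (algebraMap R A₀ r), ?_⟩
      rw [hA₀L]
      exact (congrArg (fun q : Oa => (q : Ka)) (RingHom.congr_fun hψ₀ r)).symm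
    | add x y _ _ hx hy => simpa [z] using add_mem hx hy
    | mul x y _ _ hx hy => simpa [z] using mul_mem hx hy
  let eL := RingEquiv.ofBijective μ.rangeRestrict
    ⟨fun x y hxy => hμinj (congrArg Subtype.val hxy), μ.rangeRestrict_surjective⟩
  let ψ : B →+* L := eL.symm.toRingHom.comp ((Oa.subtype.comp ψ₀).codRestrict μ.range hzL)
  have hψ : ∀ b, μ (ψ b) = z b := fun b => congrArg Subtype.val (eL.apply_symm_apply _)
  have hTV : ∀ t : T, (t : F) ∈ V := fun ⟨t, ht⟩ => by
    change t ∈ Algebra.adjoin O G at ht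
    show t ∈ V
    induction ht using Algebra.adjoin_induction with
    | mem x hx =>
      refine (V.valuation_le_one_iff _).1 (EtValLib.valuation_integral_le hAV ?_)
      rcases hx with ⟨b, rfl⟩ | ⟨b, rfl⟩
      exacts [ha b, hd b]
    | algebraMap x => exact (V.valuation_le_one_iff _).1 (hAV x)
    | add _ _ _ _ hx hy => exact add_mem hx hy
    | mul _ _ _ _ hx hy => exact mul_mem hx hy
  have hμOa : ∀ l, μ l ∈ Oa := by
    intro l
    obtain ⟨⟨y, ⟨_, n, rfl⟩⟩, ht⟩ := IsLocalization.surj (Submonoid.powers h) l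
    have hyT : ∀ y : M, (y : F) ∈ V := fun ⟨y, hy⟩ => by
      change y ∈ N at hy
      show y ∈ V
      induction hy using Submodule.span_induction with
      | mem x hx =>
        obtain ⟨i, rfl⟩ := hx
        exact hTV (e i)
      | zero => exact zero_mem _
      | add _ _ _ _ hx hy => exact add_mem hx hy
      | smul c x _ hx =>
        rw [Algebra.smul_def]
        exact mul_mem ((V.valuation_le_one_iff _).1 (hAV ⟨_, hA₀ _ c.2⟩)) hx
    have hhinv : (h : F)⁻¹ ∈ V := by rw [← V.valuation_le_one_iff, map_inv₀, hhv, inv_one]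
    have : μ l = algebraMap F Ka ((y : F) * ((h : F)⁻¹) ^ n) := by
      rw [map_mul, map_pow, map_inv₀, inv_pow, eq_mul_inv_iff_mul_eq₀ (pow_ne_zero _ ((map_ne_zero _).2 hh0)),
        ← hμ y, ← ht, map_mul]
      congr 1
      rw [← map_pow]
      exact (hμ (h ^ n)).symm
    rw [this]
    exact mul_mem (hyT y) (pow_mem hhinv n)
  let μ' : L →+* Oa := μ.codRestrict Oa.toSubring hμOa
  refine hasChart_of_data A₀ M h ψ ?_ O hA₀ ((IsLocalRing.maximalIdeal Oa).comap μ') (fun x => ?_) S₀ hA₀c hS₀O
  · refine RingHom.ext fun r => hμinj ?_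
    show μ (ψ (algebraMap R B r)) = μ (algebraMap A₀ L (algebraMap R A₀ r))
    rw [hψ, hA₀L]
    exact congrArg (fun q : Oa => (q : Ka)) (RingHom.congr_fun hψ₀ r)
  · show _ ↔ μ' (algebraMap A₀ L x) ∈ IsLocalRing.maximalIdeal Oa
    rw [← Oa.coe_mem_nonunits_iff]
    show _ ↔ μ (algebraMap A₀ L x) ∈ Oa.nonunits
    rw [hA₀L]
    constructor
    · intro hx
      refine hloc ⟨x, hA₀ _ x.2⟩ fun hu => ?_
      rw [O.mem_nonunits_iff] at hx
      exact hx.ne ((O.valuation_eq_one_iff ⟨x, hA₀ _ x.2⟩).1 hu)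
    · intro hx
      by_contra hx'
      rw [O.mem_nonunits_iff, not_lt] at hx'
      have hinv : (x : K)⁻¹ ∈ O := by
        rw [← O.valuation_le_one_iff, map_inv₀]; exact inv_le_one_of_one_le₀ hx'
      have hx0 : (x : K) ≠ 0 := fun h' => by rw [h', map_zero] at hx'; exact (zero_lt_one.trans_le hx').false
      have h1 := mul_lt_one_of_lt_of_le (Oa.mem_nonunits_iff.1 hx)
        ((Oa.valuation_le_one_iff _).2 (hOa ⟨_, hinv⟩))
      have e : f ⟨_, hinv⟩ = algebraMap K Ka (x : K)⁻¹ := rfl
      rw [e, ← map_mul, ← map_mul, mul_inv_cancel₀ hx0, map_one, map_one] at h1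
      exact h1.false

end Groth.Agent.HTopFrob
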