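import Groth.Agent.HTopFrob.Induction
import Groth.Agent.HTopUltra.HSheaf
import Groth.Prelude.Def_W4stkflatFrob
import Mathlib.AlgebraicGeometry.GammaSpecAdjunction
import Mathlib.RingTheory.RingHom.FinitePresentation

/-!
# The limit along the `p`-th power map of global sections is an h sheaf
-/

set_option autoImplicit false
set_option linter.style.haveILetI false
set_option maxHeartbeats 1000000

universe u

open CategoryTheory CategoryTheory.Limits AlgebraicGeometry TopologicalSpace Opposite TensorProduct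

namespace Groth.Agent.HTopFrob

open HTopUltra in
/-- The affine algebra behind a qc covering of an affine scheme with lifting of valuations is good after
descending to a Noetherian base. -/
theorem exists_goodAt {p : ℕ} [Fact p.Prime] {U W : Scheme.{u}} [IsAffine U] [IsAffine W] (q : W ⟶ U)
    [LocallyOfFinitePresentation q] (hp : (p : Γ(U, ⊤)) = 0)
    (hq : HTop.HasValLift (PreZeroHypercover.singleton.{0} q)) :
    ∃ N : ℕ, (∀ x : Γ(U, ⊤), q.appTop x = 0 → x ^ p ^ N = 0) ∧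
      ∀ β : Γ(W, ⊤), (∀ (Z : CommRingCat.{u}) (x y : Spec Z ⟶ W), x ≫ q = y ≫ q →
          x.appTop β = y.appTop β) → ∃ a, q.appTop a = β ^ p ^ N := by
  obtain ⟨I, _, _, D, π, ⟨hc⟩, hDa, hDn⟩ := exists_noetherian_system U
  haveI := hDa
  haveI : IsAffine (Cone.mk U π).pt := ‹IsAffine U›
  obtain ⟨i₁, X₁, f₁, m, hX₁, hf₁, hsq⟩ := exists_affine_model D (Cone.mk U π) hc q
  haveI := hX₁
  haveI := hf₁
  obtain ⟨i, φ, hi⟩ := exists_stage_hasValLift D (Cone.mk U π) hc i₁ f₁ m q hsq.w hq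
  let fi : pullback f₁ (D.map φ) ⟶ D.obj i := pullback.snd f₁ (D.map φ)
  let mi : W ⟶ pullback f₁ (D.map φ) := pullback.lift m (q ≫ π.app i) (by
    rw [Category.assoc]
    exact hsq.w.trans (congrArg (q ≫ ·) ((Cone.mk U π).w φ).symm))
  have hsqi : IsPullback mi q fi (π.app i) :=
    IsPullback.of_right (by rw [pullback.lift_fst]; exact ((Cone.mk U π).w φ).symm ▸ hsq)
      (pullback.lift_snd _ _ _) (IsPullback.of_hasPullback _ _)
  haveI := hDn i
  let A₁ := Γ(D.obj i, ⊤)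
  let B₁ := Γ(pullback f₁ (D.map φ), ⊤)
  letI : Algebra A₁ B₁ := fi.appTop.hom.toAlgebra
  haveI : Algebra.FiniteType A₁ B₁ := RingHom.FiniteType.of_finitePresentation fi.finitePresentation_appTop
  have hcov : ValCover A₁ B₁ := by
    intro K _ _ O χ
    haveI : IsDomain (CommRingCat.of O) := inferInstanceAs (IsDomain O)
    haveI : ValuationRing (CommRingCat.of O) := inferInstanceAs (ValuationRing O)
    obtain ⟨V, hV, hV', ψ, ⟨hψi, hψl⟩, _j, g', hg'⟩ := hi (CommRingCat.of O) (ofTop χ)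
    let g₁ : Spec V ⟶ pullback f₁ (D.map φ) := g'
    obtain ⟨θ, hθ⟩ := exists_ofTop (R := V) g₁
    have hcomm : θ.comp fi.appTop.hom = ψ.hom.comp χ := by
      refine ofTop_injective ?_
      rw [← ofTop_comp, hθ]
      exact hg'.trans (map_ofTop _ _)
    haveI := hψl
    obtain ⟨θ', hθO, hθ'⟩ := exists_ringHom_into O.subtype Subtype.coe_injective O (fun a => a.2)
      (fun a ha => lt_of_le_of_ne (O.valuation_le_one a) fun h' => ha ((O.valuation_eq_one_iff a).2 h'))
      χ fi.appTop.hom (RingHom.FiniteType.of_finitePresentation fi.finitePresentation_appTop) ψ.hom hψi θ hcomm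
    exact ⟨θ'.codRestrict O.toSubring hθO, RingHom.ext fun a => Subtype.ext (RingHom.congr_fun hθ' a)⟩
  let R₀ := A₁ ⧸ Ideal.span {(p : A₁)}
  have hp₀ : (p : R₀) = 0 := by
    rw [← map_natCast (Ideal.Quotient.mk (Ideal.span {(p : A₁)})), Ideal.Quotient.eq_zero_iff_mem]
    exact Ideal.mem_span_singleton_self _
  obtain ⟨N, hN⟩ := good_of_valCover hp₀ (hcov.baseChange R₀)
  let ρ : R₀ →+* Γ(U, ⊤) := Ideal.Quotient.lift _ (π.app i).appTop.hom fun z hz => by
    obtain ⟨c, rfl⟩ := Ideal.mem_span_singleton.1 hz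
    rw [map_mul, map_natCast, hp, zero_mul]
  letI : Algebra R₀ Γ(U, ⊤) := ρ.toAlgebra
  let T := Γ(U, ⊤) ⊗[R₀] (R₀ ⊗[A₁] B₁)
  let inlU : Γ(U, ⊤) →+* T := Algebra.TensorProduct.includeLeftRingHom
  let inB : B₁ →+* T := (Algebra.TensorProduct.includeRight :
    (R₀ ⊗[A₁] B₁) →ₐ[R₀] T).toRingHom.comp (Algebra.TensorProduct.includeRight : B₁ →ₐ[A₁] R₀ ⊗[A₁] B₁).toRingHom
  have hin : ∀ a : A₁, inB (fi.appTop a) = inlU ((π.app i).appTop a) := fun a => by
    show (1 : Γ(U, ⊤)) ⊗ₜ[R₀] ((1 : R₀) ⊗ₜ[A₁] algebraMap A₁ B₁ a) =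
      (show Γ(U, ⊤) from (π.app i).appTop a) ⊗ₜ[R₀] 1
    rw [← algebraMap_tmul_one (B := B₁) a]
    exact (algebraMap_tmul_one (A := R₀) (R := Γ(U, ⊤)) (Ideal.Quotient.mk _ a : R₀)).symm
  let x₀ : Spec (CommRingCat.of T) ⟶ W := hsqi.lift (ofTop inB) (ofTop inlU) (by
    rw [ofTop_comp, ofTop_comp]
    exact congrArg ofTop (RingHom.ext hin))
  obtain ⟨γ, hγ⟩ := exists_ofTop x₀
  have hγq : γ.comp q.appTop.hom = inlU := ofTop_injective (by
    rw [← ofTop_comp, hγ]; exact hsqi.lift_snd _ _ _)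
  have hγm : γ.comp mi.appTop.hom = inB := ofTop_injective (by
    rw [← ofTop_comp, hγ]; exact hsqi.lift_fst _ _ _)
  have wδ₀ : ∀ a : A₁, ((q.appTop.hom.comp ρ) (algebraMap A₁ R₀ a)) = mi.appTop.hom (algebraMap A₁ B₁ a) := by
    intro a
    show q.appTop ((π.app i).appTop a) = mi.appTop (fi.appTop a)
    rw [← CommRingCat.comp_apply, ← CommRingCat.comp_apply, ← Scheme.Hom.comp_appTop, ← Scheme.Hom.comp_appTop,
      hsqi.w]
  have wδ : ∀ r : R₀, q.appTop.hom (algebraMap R₀ Γ(U, ⊤) r) =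
      lift2 (q.appTop.hom.comp ρ) mi.appTop.hom wδ₀ (algebraMap R₀ (R₀ ⊗[A₁] B₁) r) := fun r => by
    show _ = lift2 _ _ wδ₀ (r ⊗ₜ 1)
    rw [lift2_tmul, map_one, mul_one]
    rfl
  let δ : T →+* Γ(W, ⊤) := lift2 q.appTop.hom _ wδ
  have hδl : δ.comp inlU = q.appTop.hom := RingHom.ext fun u => by
    show δ (u ⊗ₜ 1) = _
    rw [lift2_tmul, map_one, mul_one]
  have hδr : δ.comp inB = mi.appTop.hom := RingHom.ext fun b => by
    show δ ((1 : Γ(U, ⊤)) ⊗ₜ ((1 : R₀) ⊗ₜ b)) = _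
    rw [lift2_tmul, lift2_tmul, map_one, map_one, one_mul, one_mul]
  have hδγ : δ.comp γ = RingHom.id _ := by
    refine ofTop_injective (hsqi.hom_ext ?_ ?_)
    · rw [ofTop_comp, ofTop_comp, RingHom.comp_assoc, hγm, hδr, RingHom.id_comp]
    · rw [ofTop_comp, ofTop_comp, RingHom.comp_assoc, hγq, hδl, RingHom.id_comp]
  refine ⟨N, fun x hx => (hN Γ(U, ⊤)).1 x fun _ => ?_, fun β hβ => ?_⟩
  · show inlU x = 0
    rw [← hγq, RingHom.comp_apply, hx, map_zero]
  · obtain ⟨a, ha⟩ := (hN Γ(U, ⊤)).2 (fun _ : Unit => γ β) fun _ _ Z _ g h w => by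
      have e : ofTop (g.comp γ) ≫ q = ofTop (h.comp γ) ≫ q := by
        rw [ofTop_comp, ofTop_comp, RingHom.comp_assoc, RingHom.comp_assoc, hγq]
        exact congrArg ofTop (RingHom.ext w)
      have := hβ (CommRingCat.of Z) _ _ e
      have key : ∀ g : Γ(W, ⊤) →+* Z, (ofTop g).appTop β = (Scheme.ΓSpecIso (CommRingCat.of Z)).inv (g β) := by
        intro g
        have := congrArg (fun φ => φ.hom β) (show (ofTop g).appTop =
          CommRingCat.ofHom g ≫ (Scheme.ΓSpecIso (CommRingCat.of Z)).inv by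
            have hinv : W.isoSpec.inv.appTop = (Scheme.ΓSpecIso Γ(W, ⊤)).inv := by
              rw [← cancel_mono (Scheme.ΓSpecIso Γ(W, ⊤)).hom, Iso.inv_hom_id, ← Scheme.toSpecΓ_appTop,
                ← Scheme.Hom.comp_appTop]
              exact (congrArg Scheme.Hom.appTop W.isoSpec.hom_inv_id).trans (Scheme.Hom.id_appTop)
            rw [ofTop, Scheme.Hom.comp_appTop, hinv]
            exact (Scheme.ΓSpecIso_inv_naturality _).symm)
        exact this
      rw [key, key] at this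
      exact (Scheme.ΓSpecIso (CommRingCat.of Z)).commRingCatIsoToRingEquiv.symm.injective this
    refine ⟨a, ?_⟩
    have := congrArg δ (ha ())
    rw [map_pow] at this
    rw [← RingHom.congr_fun hδl a]
    exact this.trans (congrArg (· ^ p ^ N) (RingHom.congr_fun hδγ β))

end Groth.Agent.HTopFrob
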