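import Groth.Agent.HTopFrob.Scheme

/-!
# The h sheaf property of `HTop.frobLimPresheaf`
-/

set_option autoImplicit false
set_option linter.style.haveILetI false
set_option maxHeartbeats 1000000

universe u

open CategoryTheory CategoryTheory.Limits AlgebraicGeometry TopologicalSpace Opposite

namespace Groth.Agent.HTopFrob

/-- The ring representing compatible sequences of `p`-th roots. -/
abbrev RootRing (p : ℕ) : Type u :=
  MvPolynomial ℕ (ULift.{u} ℤ) ⧸
    Ideal.span (Set.range fun n : ℕ => (MvPolynomial.X (n + 1) : MvPolynomial ℕ (ULift.{u} ℤ)) ^ p - MvPolynomial.X n)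

/-- The universal sequence. -/
noncomputable def root (p : ℕ) (n : ℕ) : RootRing.{u} p := Ideal.Quotient.mk _ (MvPolynomial.X n)

/-- Compatible sequences of sections, as a presheaf on all schemes. -/
noncomputable def G (p : ℕ) : Scheme.{u}ᵒᵖ ⥤ Type u where
  obj X := HTop.FrobLimSections p X.unop
  map f := ↾fun a => HTop.FrobLimSections.map p f.unop a
  map_id X := by
    ext a n
    simp
  map_comp f g := by
    ext a n
    simp

theorem root_pow (p n : ℕ) : root.{u} p (n + 1) ^ p = root p n := by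
  rw [root, root, ← map_pow, Ideal.Quotient.eq]
  exact Ideal.subset_span ⟨n, rfl⟩

/-- The sequence defined by a point of the spectrum of the root ring. -/
noncomputable def seqOf (p : ℕ) {X : Scheme.{u}} (g : X ⟶ Spec (CommRingCat.of (RootRing.{u} p))) :
    HTop.FrobLimSections p X :=
  ⟨fun n => g.appTop ((Scheme.ΓSpecIso _).inv (root p n)), fun n => by
    rw [← map_pow, ← map_pow, root_pow]⟩

theorem seqOf_bijective (p : ℕ) (X : Scheme.{u}) : Function.Bijective (seqOf.{u} p (X := X)) := by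
  refine ⟨fun g g' h => ?_, fun a => ?_⟩
  · refine ext_to_Spec ?_
    show (Scheme.ΓSpecIso _).inv ≫ g.appTop = (Scheme.ΓSpecIso _).inv ≫ g'.appTop
    refine CommRingCat.hom_ext (Ideal.Quotient.ringHom_ext (MvPolynomial.ringHom_ext' ?_ fun n => ?_))
    · refine RingHom.ext fun z => ?_
      obtain ⟨z, rfl⟩ := ULift.ringEquiv.symm.surjective z
      exact RingHom.congr_fun (RingHom.ext_int (((((Scheme.ΓSpecIso _).inv ≫ g.appTop).hom.comp
        (Ideal.Quotient.mk _)).comp MvPolynomial.C).comp ULift.ringEquiv.symm.toRingHom)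
        (((((Scheme.ΓSpecIso _).inv ≫ g'.appTop).hom.comp
        (Ideal.Quotient.mk _)).comp MvPolynomial.C).comp ULift.ringEquiv.symm.toRingHom)) z
    · exact congrFun (congrArg Subtype.val h) n
  · let φ : RootRing.{u} p →+* Γ(X, ⊤) := Ideal.Quotient.lift _
      (MvPolynomial.eval₂Hom ((Int.castRingHom _).comp ULift.ringEquiv.toRingHom) a.1) fun r hr => by
        refine (Ideal.span_le.2 ?_ : Ideal.span _ ≤ RingHom.ker (MvPolynomial.eval₂Hom
          ((Int.castRingHom Γ(X, ⊤)).comp ULift.ringEquiv.toRingHom) a.1)) hr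
        rintro _ ⟨n, rfl⟩
        simp [a.2 n]
    refine ⟨X.toSpecΓ ≫ Spec.map (CommRingCat.ofHom φ), HTop.FrobLimSections.ext fun n => ?_⟩
    show (X.toSpecΓ ≫ Spec.map (CommRingCat.ofHom φ)).appTop ((Scheme.ΓSpecIso _).inv (root p n)) = a.1 n
    rw [Scheme.Hom.comp_appTop, Scheme.toSpecΓ_appTop, ← CommRingCat.comp_apply, ← Category.assoc,
      ← Scheme.ΓSpecIso_inv_naturality, Category.assoc, Iso.inv_hom_id, Category.comp_id]
    exact MvPolynomial.eval₂Hom_X' _ _ n

theorem isSheaf_zariski (p : ℕ) (S : Scheme.{u}) :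
    Presieve.IsSheaf (Scheme.zariskiTopology.over S) (HTop.frobLimPresheaf p S) := by
  have hr : (G.{u} p).IsRepresentable := Functor.RepresentableBy.isRepresentable
    (Y := Spec (CommRingCat.of (RootRing.{u} p)))
    { homEquiv := fun {X} => Equiv.ofBijective _ (seqOf_bijective p X)
      homEquiv_comp := fun f g => HTop.FrobLimSections.ext fun n => rfl }
  exact Functor.op_comp_isSheaf_of_isSheaf_type (F := Over.forget S) (J := Scheme.zariskiTopology.over S)
    (K := Scheme.zariskiTopology) (GrothendieckTopology.Subcanonical.isSheaf_of_isRepresentable (G.{u} p))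

theorem isSheafFor_proper (p : ℕ) [Fact p.Prime] {S : Scheme.{u}} (hS : (p : Γ(S, ⊤)) = 0) {U V : Over S}
    (f : V ⟶ U) [IsAffine U.left] [IsProper f.left] [Surjective f.left] [LocallyOfFinitePresentation f.left] :
    Presieve.IsSheafFor (HTop.frobLimPresheaf p S) (Presieve.singleton f) := by
  classical
  have hz := isSheaf_zariski p S
  haveI : CompactSpace U.left := inferInstance
  haveI : CompactSpace V.left := QuasiCompact.compactSpace_of_compactSpace f.left
  let 𝒱 := V.left.affineCover.finiteSubcover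
  haveI : ∀ k, IsAffine (𝒱.X k) := fun k => Scheme.isAffine_affineCover _ _
  haveI : ∀ k, IsOpenImmersion (𝒱.f k) := fun k => inferInstanceAs (IsOpenImmersion (V.left.affineCover.f _))
  let W := ∐ 𝒱.X
  let h : W ⟶ V.left := Sigma.desc 𝒱.f
  let q := h ≫ f.left
  haveI : LocallyOfFinitePresentation h :=
    IsZariskiLocalAtSource.sigmaDesc (P := @LocallyOfFinitePresentation) fun k => inferInstance
  have hcov : HTop.HasValLift (PreZeroHypercover.singleton.{0} q) := by
    have hV : HTop.IsVCover (PreZeroHypercover.singleton.{0} f.left) :=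
      (HTopLib.isHCover_of_proper f.left).2
    obtain ⟨n, ik, Vk, -, hlift⟩ := HTopUltra.exists_finite_affine_lifting _ hV
    intro R _ _ g
    obtain ⟨R', hR, hR', φ, hφ, k, g', hg'⟩ := hlift R g
    let g₂ : Spec R' ⟶ V.left := g' ≫ (Vk k).ι
    have hr : Set.range g₂ ⊆ Set.range (𝒱.f (𝒱.idx (g₂ (IsLocalRing.closedPoint R')))) := by
      have := HTopLib.range_subset_of_closedPoint g₂ (𝒱.f (𝒱.idx (g₂ (IsLocalRing.closedPoint R')))).opensRange
        (𝒱.covers _)
      exact this
    refine ⟨R', hR, hR', φ, hφ, PUnit.unit,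
      IsOpenImmersion.lift (𝒱.f _) g₂ hr ≫ Sigma.ι 𝒱.X _, ?_⟩
    show (IsOpenImmersion.lift (𝒱.f _) g₂ hr ≫ Sigma.ι 𝒱.X _) ≫ h ≫ f.left = _
    rw [Category.assoc, Sigma.ι_desc_assoc, IsOpenImmersion.lift_fac_assoc, Category.assoc]
    exact hg'
  have hpU : (p : Γ(U.left, ⊤)) = 0 := by rw [← map_natCast U.hom.appTop.hom, hS, map_zero]
  obtain ⟨N, hsep, hglue⟩ := exists_goodAt q hpU hcov
  -- sections are determined after pulling back to the cover
  have hext : ∀ b b' : HTop.FrobLimSections p V.left, (∀ n, h.appTop (b.1 n) = h.appTop (b'.1 n)) → b = b' :=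
    fun b b' hb => HTopUltra.HSheaf.ext_openCover hz (X := V) 𝒱 fun k => HTop.FrobLimSections.ext fun n => by
      show (𝒱.f k).appTop (b.1 n) = (𝒱.f k).appTop (b'.1 n)
      rw [show 𝒱.f k = Sigma.ι 𝒱.X k ≫ h from (Sigma.ι_desc _ _).symm, Scheme.Hom.comp_appTop,
        CommRingCat.comp_apply, CommRingCat.comp_apply, hb n]
  have hQ : ∀ {x y : Γ(U.left, ⊤)}, q.appTop x = q.appTop y → x ^ p ^ N = y ^ p ^ N := fun {x y} hxy => by
    rw [← sub_eq_zero, ← sub_pow_q hpU]
    exact hsep _ (by rw [map_sub, hxy, sub_self])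
  have shift : ∀ {X : Scheme.{u}} (a : HTop.FrobLimSections p X) (n k : ℕ), a.1 (n + k) ^ p ^ k = a.1 n := by
    intro X a n k
    induction k with
    | zero => simp
    | succ k ih => rw [pow_succ', pow_mul, ← Nat.add_assoc, a.2, ih]
  rw [Presieve.isSheafFor_singleton]
  intro b hb
  have hcomp : ∀ n (Z : CommRingCat.{u}) (x y : Spec Z ⟶ W), x ≫ q = y ≫ q →
      x.appTop (h.appTop (b.1 n)) = y.appTop (h.appTop (b.1 n)) := by
    intro n Z x y hxy
    let Zo : Over S := Over.mk (x ≫ h ≫ V.hom)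
    let p₁ : Zo ⟶ V := Over.homMk (x ≫ h) (Category.assoc _ _ _)
    let p₂ : Zo ⟶ V := Over.homMk (y ≫ h) (by
      show (y ≫ h) ≫ V.hom = x ≫ h ≫ V.hom
      rw [Category.assoc, ← Over.w f]
      simpa [q, Category.assoc] using congrArg (· ≫ U.hom) hxy.symm)
    have := hb p₁ p₂ (Over.OverMorphism.ext (by
      show (x ≫ h) ≫ f.left = (y ≫ h) ≫ f.left
      rw [Category.assoc, Category.assoc]; exact hxy))
    have := congrFun (congrArg Subtype.val this) n
    exact this
  choose a' ha' using fun n => hglue _ (hcomp n)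
  let c : ℕ → Γ(U.left, ⊤) := fun n => a' (n + N)
  have hc : ∀ n, q.appTop (c n) = h.appTop (b.1 n) := fun n => by
    rw [ha', ← map_pow, shift b n N]
  let a : HTop.FrobLimSections p U.left := ⟨fun n => c (n + N) ^ p ^ N, fun n => by
    have hrec : (c (n + N + 1) ^ p) ^ p ^ N = c (n + N) ^ p ^ N :=
      hQ (by rw [map_pow, hc, hc, ← map_pow, b.2])
    show (c (n + 1 + N) ^ p ^ N) ^ p = c (n + N) ^ p ^ N
    rw [← hrec, ← pow_mul, ← pow_mul, mul_comm, show n + 1 + N = n + N + 1 by omega]⟩
  have haq : ∀ n, q.appTop (a.1 n) = h.appTop (b.1 n) := fun n => by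
    show q.appTop (c (n + N) ^ p ^ N) = _
    rw [map_pow, hc, ← map_pow, shift b n N]
  refine ⟨a, hext _ _ fun n => ?_, fun a₂ ha₂ => HTop.FrobLimSections.ext fun n => ?_⟩
  · show h.appTop (f.left.appTop (a.1 n)) = _
    rw [← CommRingCat.comp_apply, ← Scheme.Hom.comp_appTop]
    exact haq n
  · rw [← shift a₂ n N, ← shift a n N]
    refine hQ ?_
    have h2 := congrFun (congrArg Subtype.val ha₂) (n + N)
    rw [haq, ← h2]
    show q.appTop _ = h.appTop (f.left.appTop _)
    rw [← CommRingCat.comp_apply, ← Scheme.Hom.comp_appTop]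

end Groth.Agent.HTopFrob
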